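import Mathlib
import Cfsg.Agent.Ch.KPGrp
import Cfsg.Agent.Blk.LinRed

/-!
# Linear groups of order prime to the characteristic with two orbits on non-zero vectors
-/

set_option autoImplicit false

namespace Cfsg.Agent.K3C

open Cfsg Subgroup GT.Frob Module Ch Ch.KT

variable {p : ℕ} [hp : Fact p.Prime] {V : Type*} [AddCommGroup V] [Module (ZMod p) V]
  {G : Type*} [Group G]

/-- The orbit of a vector. -/
def orb (ρ : G →* (V ≃ₗ[ZMod p] V)) (v : V) : Set V := Set.range fun g => ρ g v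

/-- The stabiliser of a vector. -/
def stab (ρ : G →* (V ≃ₗ[ZMod p] V)) (v : V) : Subgroup G :=
  (MulAction.stabilizer (V ≃ₗ[ZMod p] V) v).comap ρ

/-- The contragredient representation. -/
def dualRep (ρ : G →* (V ≃ₗ[ZMod p] V)) :
    G →* (Dual (ZMod p) V ≃ₗ[ZMod p] Dual (ZMod p) V) :=
  MonoidHom.mk' (fun g => (ρ g⁻¹).dualMap) fun g h => by
    ext f x
    simp

variable {ρ : G →* (V ≃ₗ[ZMod p] V)}

theorem dualRep_apply (g : G) (f : Dual (ZMod p) V) (x : V) : dualRep ρ g f x = f (ρ g⁻¹ x) := rfl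

instance finite_dual [Finite V] : Finite (Dual (ZMod p) V) := Module.finite_of_finite (ZMod p)

theorem mem_orb {v w : V} : w ∈ orb ρ v ↔ ∃ g, ρ g v = w := Iff.rfl

theorem mem_stab {v : V} {g : G} : g ∈ stab ρ v ↔ ρ g v = v := Iff.rfl

theorem self_mem_orb (v : V) : v ∈ orb ρ v := ⟨1, by simp⟩

theorem orb_eq_of_mem {v w : V} (h : w ∈ orb ρ v) : orb ρ w = orb ρ v := by
  obtain ⟨g, rfl⟩ := h
  ext x
  exact ⟨fun ⟨a, ha⟩ => ⟨a * g, by simpa using ha⟩, fun ⟨a, ha⟩ => ⟨a * g⁻¹, by simpa using ha⟩⟩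

theorem ncard_orb (v : V) : (orb ρ v).ncard = (stab ρ v).index := by
  let _ := DistribMulAction.compHom V ρ
  exact (MulAction.index_stabilizer G v).symm

theorem ncard_orb_dvd (v : V) : (orb ρ v).ncard ∣ Nat.card G :=
  ncard_orb (ρ := ρ) v ▸ index_dvd_card _

/-- At most two classes of non-trivial `p`-elements. -/
def TwoCl (p : ℕ) (G : Type*) [Group G] : Prop :=
  ∃ a b : G, ∀ x : G, x ≠ 1 → (∃ k : ℕ, orderOf x = p ^ k) → IsConj a x ∨ IsConj b x

/-- A faithful `p'`-group with exactly two orbits on non-zero vectors and few classes. -/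
structure Bad (ρ : G →* (V ≃ₗ[ZMod p] V)) (u v : V) : Prop where
  inj : Function.Injective ρ
  cop : ¬ p ∣ Nat.card G
  u0 : u ≠ 0
  v0 : v ≠ 0
  ne : v ∉ orb ρ u
  cov : ∀ w, w ≠ 0 → w ∈ orb ρ u ∨ w ∈ orb ρ v
  two : 2 ≤ finrank (ZMod p) V
  few : 2 * Nat.card (ConjClasses G) < p

/-- Orbits are closed under non-zero scalars. -/
def Scal (ρ : G →* (V ≃ₗ[ZMod p] V)) : Prop :=
  ∀ c : ZMod p, c ≠ 0 → ∀ w : V, c • w ∈ orb ρ w

theorem Bad.symm {u v : V} (h : Bad ρ u v) : Bad ρ v u :=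
  ⟨h.inj, h.cop, h.v0, h.u0, fun e => h.ne (orb_eq_of_mem e ▸ self_mem_orb v),
    fun w hw => (h.cov w hw).symm, h.two, h.few⟩

theorem Bad.nontrivial {u v : V} (h : Bad ρ u v) : Nontrivial V := nontrivial_of_ne u 0 h.u0

theorem Bad.orb_eq {u v : V} (h : Bad ρ u v) {w : V} (hw : w ≠ 0) :
    orb ρ w = orb ρ u ∨ orb ρ w = orb ρ v := (h.cov w hw).imp orb_eq_of_mem orb_eq_of_mem

end Cfsg.Agent.K3C
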