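import Mathlib
import Cfsg.Agent.K3C.Defs
import Cfsg.Agent.FG.PiClasses
import Cfsg.Agent.FG.ClassCount

/-!
# Two orbits on non-zero vectors: basic counting
-/

set_option autoImplicit false

namespace Cfsg.Agent.K3C

open Cfsg Subgroup GT.Frob Module Ch Ch.KT

variable {p : ℕ} [hp : Fact p.Prime] {V : Type*} [AddCommGroup V] [Module (ZMod p) V] [Finite V]
  {G : Type*} [Group G] [Finite G] {ρ : G →* (V ≃ₗ[ZMod p] V)} {u v : V}

omit [Finite V] [Finite G] in
theorem bas_zero {w : V} (hw : w ≠ 0) : (0 : V) ∉ orb ρ w := fun ⟨g, hg⟩ =>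
  hw ((ρ g).map_eq_zero_iff.1 hg)

omit [Finite V] [Finite G] in
theorem bas_disj (h : Bad ρ u v) : Disjoint (orb ρ u) (orb ρ v) := by
  refine Set.disjoint_left.2 fun x hx hx' => h.ne ?_
  rw [← orb_eq_of_mem hx, orb_eq_of_mem hx']
  exact self_mem_orb v

omit [Finite G] in
theorem bas_card (W : Submodule (ZMod p) V) : (W : Set V).ncard = p ^ finrank (ZMod p) W := by
  rw [← card_eq_pow (p := p) (V := W), ← Nat.card_coe_set_eq]
  rfl

theorem Bad.add (h : Bad ρ u v) :
    (orb ρ u).ncard + (orb ρ v).ncard + 1 = p ^ finrank (ZMod p) V := by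
  have h1 : (Set.univ : Set V) = insert 0 (orb ρ u ∪ orb ρ v) := by
    ext w
    simp only [Set.mem_univ, Set.mem_insert_iff, Set.mem_union, true_iff]
    by_cases hw : w = 0
    · exact .inl hw
    · exact .inr (h.cov w hw)
  rw [← card_eq_pow (p := p) (V := V), ← Set.ncard_univ, h1,
    Set.ncard_insert_of_notMem (fun e => e.elim (bas_zero h.u0) (bas_zero h.v0)),
    Set.ncard_union_eq (bas_disj h)]

theorem Bad.le_card (h : Bad ρ u v) : p ^ finrank (ZMod p) V - 1 ≤ 2 * Nat.card G := by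
  have h1 := h.add
  have h2 := Nat.le_of_dvd Nat.card_pos (ncard_orb_dvd (ρ := ρ) u)
  have h3 := Nat.le_of_dvd Nat.card_pos (ncard_orb_dvd (ρ := ρ) v)
  omega

theorem Bad.irr (h : Bad ρ u v) : IrrOn ρ ⊤ := by
  intro W hW
  by_contra hne
  obtain ⟨h0, h1⟩ := not_or.1 hne
  obtain ⟨w, hw, w0⟩ := Submodule.exists_mem_ne_zero_of_ne_bot h0
  obtain ⟨x, hx⟩ : ∃ x, x ∉ W := by
    by_contra hh
    push Not at hh
    exact h1 (Submodule.eq_top_iff'.2 hh)
  have x0 : x ≠ 0 := fun e => hx (e ▸ W.zero_mem)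
  have a1 : orb ρ w ⊆ W := fun _ ⟨g, hg⟩ => hg ▸ hW g trivial w hw
  have a2 : ∀ y, y ∉ W → orb ρ y ⊆ (W : Set V)ᶜ := fun y hy _ ⟨g, hg⟩ e => hy (by
    have := hW g⁻¹ trivial _ e
    rwa [← hg, ← LinearEquiv.mul_apply, ← map_mul, inv_mul_cancel, map_one] at this)
  have a3 : ∀ y, y ∉ W → orb ρ y ≠ orb ρ w := fun y hy e => hy (a1 (e ▸ self_mem_orb y))
  have a4 : orb ρ x = (W : Set V)ᶜ := by
    refine (a2 x hx).antisymm fun y hy => ?_
    have y0 : y ≠ 0 := fun e => hy (e ▸ W.zero_mem)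
    have e : orb ρ y = orb ρ x := by
      have b1 := a3 x hx
      have b2 := a3 y hy
      rcases h.orb_eq w0 with c | c <;> rcases h.orb_eq x0 with d | d <;> rcases h.orb_eq y0 with e | e <;>
        first | exact e.trans d.symm | exact absurd (d.trans c.symm) b1 | exact absurd (e.trans c.symm) b2
    exact e ▸ self_mem_orb y
  have a5 := Set.ncard_add_ncard_compl (W : Set V)
  rw [← a4, bas_card, card_eq_pow (p := p)] at a5
  have j0 : finrank (ZMod p) W ≠ 0 := fun e => h0 (Submodule.finrank_eq_zero.1 e)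
  have n0 : finrank (ZMod p) V ≠ 0 := by have := h.two; omega
  refine h.cop (Dvd.dvd.trans ?_ (ncard_orb_dvd (ρ := ρ) x))
  exact (Nat.dvd_add_right (dvd_pow_self p j0)).1 (a5 ▸ dvd_pow_self p n0)

theorem Bad.le_sq (h : Bad ρ u v) (B : Subgroup G) [IsMulCommutative B] :
    p ^ finrank (ZMod p) V - 1 ≤ B.index ^ 2 * (p - 1) := by
  have h1 := FG.card_conjClasses_subgroup_le B
  rw [FG.PC.card_conjClasses_of_comm ‹_›] at h1
  have h2 : 2 * Nat.card (ConjClasses G) ≤ p - 1 := by have := h.few; omega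
  calc p ^ finrank (ZMod p) V - 1 ≤ 2 * Nat.card G := h.le_card
    _ = 2 * (B.index * Nat.card B) := by rw [B.index_mul_card]
    _ ≤ 2 * (B.index * (B.index * Nat.card (ConjClasses G))) := by gcongr
    _ = B.index ^ 2 * (2 * Nat.card (ConjClasses G)) := by ring
    _ ≤ B.index ^ 2 * (p - 1) := by gcongr

theorem Bad.center_lt (h : Bad ρ u v) : 2 * Nat.card (center G) < p := by
  have h1 : Nat.card (center G) ≤ Nat.card (ConjClasses G) := by
    refine Nat.card_le_card_of_injective (fun z => ConjClasses.mk z.1) fun a b e => ?_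
    obtain ⟨c, hc⟩ := isConj_iff.1 (ConjClasses.mk_eq_mk_iff_isConj.1 e)
    refine Subtype.ext ?_
    rw [← hc, mem_center_iff.1 a.2 c, mul_inv_cancel_right]
  have := h.few
  omega

theorem Bad.scal (h : Bad ρ u v) (hne : (orb ρ u).ncard ≠ (orb ρ v).ncard) : Scal ρ := by
  intro c hc w
  by_cases w0 : w = 0
  · rw [w0, smul_zero]; exact self_mem_orb 0
  have h1 : orb ρ (c • w) = (fun x => c • x) '' orb ρ w := by
    ext x
    constructor
    · rintro ⟨g, rfl⟩
      exact ⟨_, ⟨g, rfl⟩, (map_smul _ _ _).symm⟩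
    · rintro ⟨_, ⟨g, rfl⟩, rfl⟩
      exact ⟨g, map_smul _ _ _⟩
  have h2 : (orb ρ (c • w)).ncard = (orb ρ w).ncard := by
    rw [h1, Set.ncard_image_of_injective _ (smul_right_injective V hc)]
  have e : orb ρ (c • w) = orb ρ w := by
    rcases h.orb_eq w0 with a | a <;> rcases h.orb_eq (smul_ne_zero hc w0) with b | b
    · exact b.trans a.symm
    · rw [a, b] at h2; exact absurd h2.symm hne
    · rw [a, b] at h2; exact absurd h2 hne
    · exact b.trans a.symm
  exact e ▸ self_mem_orb _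

end Cfsg.Agent.K3C
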