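import Mathlib
import Cfsg.Agent.K3C.Defs
import Cfsg.Agent.K3C.Bas

/-!
# Groups with at most three classes, and the bound `11 ≤ p`
-/

set_option autoImplicit false

namespace Cfsg.Agent.K3C

open Cfsg Subgroup GT.Frob Module Ch Ch.KT

variable {p : ℕ} [hp : Fact p.Prime] {V : Type*} [AddCommGroup V] [Module (ZMod p) V] [Finite V]
  {G : Type*} [Group G] [Finite G] {ρ : G →* (V ≃ₗ[ZMod p] V)} {u v : V}

theorem small_cls (x : ConjClasses G) (hx : x ≠ ConjClasses.mk 1) :
    2 * x.carrier.ncard = Nat.card G ∨ 3 * x.carrier.ncard ≤ Nat.card G := by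
  obtain ⟨g, rfl⟩ := ConjClasses.exists_rep x
  have hg : g ≠ 1 := fun e => hx (by rw [e])
  rw [FG.ncard_carrier_mk, ← (centralizer ({g} : Set G)).card_mul_index]
  have h2 : 1 < Nat.card (centralizer ({g} : Set G)) := by
    rw [Finite.one_lt_card_iff_nontrivial, nontrivial_iff_exists_ne_one]
    exact ⟨g, mem_centralizer_singleton_iff.2 rfl, hg⟩
  rcases (show Nat.card (centralizer ({g} : Set G)) = 2 ∨
      3 ≤ Nat.card (centralizer ({g} : Set G)) by omega) with e | e
  · exact .inl (by rw [e])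
  · exact .inr (Nat.mul_le_mul_right _ e)

theorem card_le_six (h : Nat.card (ConjClasses G) ≤ 3) : Nat.card G ≤ 6 := by
  classical
  have := Fintype.ofFinite (ConjClasses G)
  have h1 := Group.sum_card_conj_classes_eq_card G
  rw [finsum_eq_sum_of_fintype, ← Finset.add_sum_erase _ _ (Finset.mem_univ (ConjClasses.mk 1)),
    FG.ncard_carrier_mk, centralizer_eq_top_iff_subset.2 (Set.singleton_subset_iff.2 (one_mem _)),
    index_top] at h1
  have h2 := Finset.card_erase_of_mem (Finset.mem_univ (ConjClasses.mk (1 : G)))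
  rw [Finset.card_univ, ← Nat.card_eq_fintype_card] at h2
  have h3 : ∀ x ∈ Finset.univ.erase (ConjClasses.mk (1 : G)),
      2 * x.carrier.ncard = Nat.card G ∨ 3 * x.carrier.ncard ≤ Nat.card G :=
    fun x hx => small_cls x (Finset.ne_of_mem_erase hx)
  generalize Finset.univ.erase (ConjClasses.mk (1 : G)) = s at h1 h2 h3
  rcases (show s.card = 0 ∨ s.card = 1 ∨ s.card = 2 by omega) with e | e | e
  · rw [Finset.card_eq_zero.1 e, Finset.sum_empty] at h1
    omega
  · obtain ⟨a, rfl⟩ := Finset.card_eq_one.1 e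
    rw [Finset.sum_singleton] at h1
    have := h3 a (by simp)
    omega
  · obtain ⟨a, b, hab, rfl⟩ := Finset.card_eq_two.1 e
    rw [Finset.sum_pair hab] at h1
    have := h3 a (by simp)
    have := h3 b (by simp)
    omega

theorem Bad.eleven (h : Bad ρ u v) : 11 ≤ p := by
  by_contra hlt
  have h1 := h.few
  have h2 := h.le_card
  have h3 : p ^ 2 ≤ p ^ finrank (ZMod p) V := Nat.pow_le_pow_right hp.out.pos h.two
  have h4 : 0 < Nat.card (ConjClasses G) := Nat.card_pos
  have h5 : p ≤ 7 := by
    have hq := hp.out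
    by_contra h7
    have : p = 8 ∨ p = 9 ∨ p = 10 := by omega
    rcases this with e | e | e <;> (rw [e] at hq; norm_num at hq)
  have h6 := card_le_six (G := G) (by omega)
  have h7 : p ≤ 3 := by
    by_contra h8
    have : 4 ^ 2 ≤ p ^ 2 := Nat.pow_le_pow_left (by omega) 2
    omega
  have h8 : Nat.card G < 3 := by
    by_contra h9
    have := three_le_k (G := G) (by omega)
    omega
  have h9 : 3 ^ 2 ≤ p ^ 2 := Nat.pow_le_pow_left (by omega) 2
  omega

end Cfsg.Agent.K3C
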