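import Mathlib
import Cfsg.Agent.K3C.Defs
import Cfsg.Agent.K3C.Small

set_option autoImplicit false

namespace Cfsg.Agent.K3C

open Cfsg Subgroup GT.Frob Module Ch Ch.KT

variable {p : ℕ} [hp : Fact p.Prime] {V : Type*} [AddCommGroup V] [Module (ZMod p) V] [Finite V]
  {G : Type*} [Group G] [Finite G] {ρ : G →* (V ≃ₗ[ZMod p] V)} {u v : V}

theorem exists_comm_index [Nontrivial V] (σ : G →* (V ≃ₗ[ZMod p] V)) (A : Subgroup G) [A.Normal]
    [IsMulCommutative A] (hA : IrrOn σ A) : ∃ C : Subgroup G, C.index ≤ finrank (ZMod p) V ∧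
      ∀ a ∈ C, ∀ b ∈ C, σ a * σ b = σ b * σ a := by
  have hs := σ.rangeRestrict_surjective
  have hinj : Function.Injective σ.range.subtype := σ.range.subtype_injective
  have hN : (A.map σ.rangeRestrict).Normal := Normal.map inferInstance _ hs
  have hI : IrrOn σ.range.subtype (A.map σ.rangeRestrict) := fun W hW =>
    hA W fun a ha w hw => hW (σ.rangeRestrict a) (mem_map_of_mem _ ha) w hw
  have hc := hI.isCyclic_centralizer hinj
  obtain ⟨-, k, d, a1, a2, a3, -, a4, -⟩ :=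
    (hI.fieldOn_centralizer.mono (le_centralizer (A.map σ.rangeRestrict))).exists_card hinj
  rw [normalizer_eq_top, relIndex_top_right] at a4
  rw [card_eq_pow (p := p) (V := V), ← pow_mul] at a3
  refine ⟨(centralizer (A.map σ.rangeRestrict : Set σ.range)).comap σ.rangeRestrict, ?_,
    fun a ha b hb => ?_⟩
  · rw [index_comap_of_surjective _ hs]
    exact (Nat.le_of_dvd a1 a4).trans
      (Nat.pow_right_injective hp.out.two_le a3 ▸ Nat.le_mul_of_pos_right k a2)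
  · have := hc.isMulCommutative
    have e := congrArg (fun x : centralizer (A.map σ.rangeRestrict : Set σ.range) => (x.1.1 : V ≃ₗ[ZMod p] V))
      (mul_comm' (⟨σ.rangeRestrict a, ha⟩ : centralizer (A.map σ.rangeRestrict : Set σ.range)) ⟨σ.rangeRestrict b, hb⟩)
    exact e

theorem abIdx_pow {q n : ℕ} (hq : 2 ≤ q) (hn : 1 ≤ n) : q ^ n * (q - 1) ≤ q ^ (n + 1) - 1 := by
  obtain ⟨t, rfl⟩ : ∃ t, q = t + 1 := ⟨q - 1, by omega⟩
  have : 1 ≤ (t + 1) ^ n := Nat.one_le_pow _ _ (by omega)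
  rw [Nat.add_sub_cancel, pow_succ, mul_add]
  omega

theorem abIdx_sq {n : ℕ} (hn : 1 ≤ n) : (n + 1) ^ 2 < 11 ^ n := by
  induction n, hn using Nat.le_induction with
  | base => norm_num
  | succ n _ ih => rw [pow_succ 11]; nlinarith

theorem abIdx_four {m : ℕ} (hm : 3 ≤ m) : (40 * m ^ 2) ^ 2 < 11 ^ (2 * m - 1) := by
  induction m, hm using Nat.le_induction with
  | base => norm_num
  | succ m hm ih =>
    rw [show 2 * (m + 1) - 1 = 2 * m - 1 + 2 by omega, pow_add]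
    have h1 : (m + 1) ^ 2 ≤ 4 * m ^ 2 := by nlinarith
    have h2 : (40 * (m + 1) ^ 2) ^ 2 ≤ (40 * (4 * m ^ 2)) ^ 2 :=
      Nat.pow_le_pow_left (Nat.mul_le_mul_left _ h1) 2
    have h3 : (40 * (4 * m ^ 2)) ^ 2 = 16 * (40 * m ^ 2) ^ 2 := by ring
    omega

theorem Bad.abIdx_le (h : Bad ρ u v) (B : Subgroup G) [IsMulCommutative B] :
    11 ^ (finrank (ZMod p) V - 1) ≤ B.index ^ 2 := by
  have h1 := h.le_sq B
  have h2 := h.eleven
  have h3 := h.two
  obtain ⟨n, hn⟩ : ∃ n, finrank (ZMod p) V = n + 1 := ⟨finrank (ZMod p) V - 1, by omega⟩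
  rw [hn] at h1 h3 ⊢
  rw [Nat.add_sub_cancel]
  have h4 := (abIdx_pow (q := p) (n := n) (by omega) (by omega)).trans h1
  exact (Nat.pow_le_pow_left h2 n).trans (Nat.le_of_mul_le_mul_right h4 (by omega))

theorem Bad.not_ab (h : Bad ρ u v) : ¬ Ab ρ := by
  rintro ⟨A, _, _, hI⟩
  have := h.nontrivial
  obtain ⟨C, c1, c2⟩ := exists_comm_index ρ A hI
  have : IsMulCommutative C := ⟨⟨fun a b => Subtype.ext (h.inj (by
    rw [coe_mul, coe_mul, map_mul, map_mul]; exact c2 a a.2 b b.2))⟩⟩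
  have h1 := h.abIdx_le C
  have h3 := h.two
  obtain ⟨n, hn⟩ : ∃ n, finrank (ZMod p) V = n + 1 := ⟨finrank (ZMod p) V - 1, by omega⟩
  rw [hn] at h1 h3 c1
  rw [Nat.add_sub_cancel] at h1
  have h4 := abIdx_sq (n := n) (by omega)
  have h5 := Nat.pow_le_pow_left c1 2
  omega

theorem Bad.index_gt (h : Bad ρ u v) {m : ℕ} (hn : finrank (ZMod p) V = 2 * m) (hm : 3 ≤ m)
    (B : Subgroup G) [IsMulCommutative B] : 40 * m ^ 2 < B.index := by
  have h1 := h.abIdx_le B
  rw [hn] at h1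
  exact lt_of_pow_lt_pow_left₀ 2 (Nat.zero_le _) ((abIdx_four hm).trans_le h1)

end Cfsg.Agent.K3C
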