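import Mathlib
import Cfsg.Agent.K3C.Defs
import Cfsg.Agent.FG.PiClasses

set_option autoImplicit false

namespace Cfsg.Agent.K3C

open Cfsg Subgroup GT.Frob Module Ch Ch.KT

variable {p : ℕ} [hp : Fact p.Prime] {V : Type*} [AddCommGroup V] [Module (ZMod p) V] [Finite V]
  {G : Type*} [Group G] [Finite G] {ρ : G →* (V ≃ₗ[ZMod p] V)} {u v : V}

theorem aff_app (σ : affineGroup (ZMod p)) (x : ZMod p) : σ.1 x = (σ.1 1 - σ.1 0) * x + σ.1 0 := by
  obtain ⟨a, b, h⟩ := σ.2
  rw [h, h, h]; ring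

/-- The multiplier of an affine map. -/
def affMul : affineGroup (ZMod p) →* ZMod p where
  toFun σ := σ.1 1 - σ.1 0
  map_one' := by simp
  map_mul' σ τ := by
    change σ.1 (τ.1 1) - σ.1 (τ.1 0) = _
    rw [aff_app σ (τ.1 1), aff_app σ (τ.1 0)]; ring

theorem kp_of_affine (h : 2 * Nat.card G = p * (p - 1)) (h2 : p ≠ 2) {f : G →* affineGroup (ZMod p)}
    (hf : Function.Injective f) : 2 * kp p G = p - 1 := by
  let φ : G →* (ZMod p)ˣ := (affMul.comp f).toHomUnits
  have hφ : ∀ g, g ∈ φ.ker → ∀ x, (f g).1 x = x + (f g).1 0 := fun g hg x => by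
    have e : (f g).1 1 - (f g).1 0 = 1 := congrArg Units.val (MonoidHom.mem_ker.1 hg)
    rw [aff_app, e, one_mul]
  let ψ : φ.ker →* Multiplicative (ZMod p) := MonoidHom.mk' (fun g => Multiplicative.ofAdd ((f g).1 0))
    fun a b => by
      rw [← ofAdd_add, coe_mul, map_mul]
      change Multiplicative.ofAdd ((f a).1 ((f b).1 0)) = _
      rw [hφ a a.2, add_comm]
  have hψ : Function.Injective ψ := (injective_iff_map_eq_one _).2 fun a ha => by
    have e : (f a).1 0 = 0 := congrArg Multiplicative.toAdd ha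
    refine Subtype.ext (hf (Subtype.ext (Equiv.ext fun x => ?_)))
    rw [hφ a a.2, e, add_zero]; simp
  have k1 : Nat.card φ.ker ∣ p := by
    simpa using Subgroup.card_dvd_of_injective ψ hψ
  have k2 : Nat.card φ.range ∣ p - 1 := by
    have := Subgroup.card_subgroup_dvd_card φ.range
    rwa [Nat.card_eq_fintype_card (α := (ZMod p)ˣ), ZMod.card_units] at this
  have p1 := hp.out.one_lt
  have k3 : ¬ p ∣ Nat.card φ.range := fun e => by
    have := Nat.le_of_dvd (by omega) (e.trans k2)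
    omega
  have k4 : Nat.card φ.ker * Nat.card φ.range = Nat.card G := by
    rw [← Subgroup.index_ker, Subgroup.card_mul_index]
  have k5 : p ∣ Nat.card G :=
    ((Nat.coprime_primes hp.out Nat.prime_two).2 h2).dvd_of_dvd_mul_left (h ▸ dvd_mul_right _ _)
  have k6 : Nat.card φ.ker = p :=
    Nat.dvd_antisymm k1 (((Nat.Prime.dvd_mul hp.out).1 (k4 ▸ k5)).resolve_right k3)
  have k7 : 2 * Nat.card φ.range = p - 1 := Nat.eq_of_mul_eq_mul_left hp.out.pos (by
    rw [← h, ← k4, k6]; ring)
  obtain ⟨H, hH⟩ := Subgroup.exists_right_complement'_of_coprime (N := φ.ker) (by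
    rw [k6, Subgroup.index_ker]; exact (hp.out.coprime_iff_not_dvd).2 k3)
  have k8 : Nat.card H = Nat.card φ.range := by rw [← hH.symm.index_eq_card, Subgroup.index_ker]
  have l1 := kp_le (p := p) (IsPGroup.of_card (n := 1) (by rw [k6, pow_one])) hH (k8 ▸ k3)
  have l2 := k_le_kp φ.rangeRestrict φ.rangeRestrict_surjective k3
  rw [FG.PC.card_conjClasses_of_comm inferInstance] at l2
  have l3 : Nat.card (ConjClasses H) ≤ Nat.card H :=
    Nat.card_le_card_of_surjective _ ConjClasses.mk_surjective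
  omega

end Cfsg.Agent.K3C
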