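import Mathlib
import Cfsg.Agent.K3C.Defs
import Cfsg.Agent.K3C.Bas

set_option autoImplicit false

namespace Cfsg.Agent.K3C

open Cfsg Subgroup GT.Frob Module Ch Ch.KT

variable {p : ℕ} [hp : Fact p.Prime] {V : Type*} [AddCommGroup V] [Module (ZMod p) V] [Finite V]
  {G : Type*} [Group G] [Finite G] {ρ : G →* (V ≃ₗ[ZMod p] V)} {u v : V}

omit [Finite V] [Finite G] in
theorem Cnt1_fib (w : V) (a : G) :
    {b : G | ρ b w = ρ a w}.ncard = Nat.card (stab ρ w) := by
  have e : {b : G | ρ b w = ρ a w} = (fun s => a * s) '' (stab ρ w : Set G) := by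
    ext b
    simp only [Set.mem_setOf_eq, Set.mem_image, SetLike.mem_coe, mem_stab]
    constructor
    · intro h
      refine ⟨a⁻¹ * b, ?_, by simp⟩
      rw [map_mul, LinearEquiv.mul_apply, h, ← LinearEquiv.mul_apply, ← map_mul, inv_mul_cancel,
        map_one, LinearEquiv.coe_one, id]
    · rintro ⟨s, hs, rfl⟩
      rw [map_mul, LinearEquiv.mul_apply, hs]
  rw [e, Set.ncard_image_of_injective _ (mul_right_injective a)]
  rfl

omit [Finite V] in
theorem Cnt1_fib_le (w y : V) : {b : G | ρ b w = y}.ncard ≤ Nat.card (stab ρ w) := by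
  by_cases h : ∃ a, ρ a w = y
  · obtain ⟨a, rfl⟩ := h
    exact (Cnt1_fib w a).le
  · have : {b : G | ρ b w = y} = ∅ := Set.eq_empty_of_forall_notMem fun b hb => h ⟨b, hb⟩
    rw [this, Set.ncard_empty]
    exact Nat.zero_le _

theorem Cnt1_cfib (g x : G) :
    {a : G | a⁻¹ * g * a = x}.ncard ≤ Nat.card (centralizer ({g} : Set G)) := by
  by_cases h : ∃ a, a⁻¹ * g * a = x
  · obtain ⟨a, rfl⟩ := h
    have e : {b : G | b⁻¹ * g * b = a⁻¹ * g * a} ⊆
        (fun s => s * a) '' (centralizer ({g} : Set G) : Set G) := by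
      intro b hb
      refine ⟨b * a⁻¹, ?_, by simp⟩
      rw [SetLike.mem_coe, mem_centralizer_singleton_iff]
      have hb' : b⁻¹ * g * b = a⁻¹ * g * a := hb
      calc b * a⁻¹ * g = b * (a⁻¹ * g * a) * a⁻¹ := by group
        _ = b * (b⁻¹ * g * b) * a⁻¹ := by rw [hb']
        _ = g * (b * a⁻¹) := by group
    refine (Set.ncard_le_ncard e (Set.toFinite _)).trans ?_
    rw [Set.ncard_image_of_injective _ (mul_left_injective a)]
    rfl
  · have : {a : G | a⁻¹ * g * a = x} = ∅ := Set.eq_empty_of_forall_notMem fun b hb => h ⟨b, hb⟩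
    rw [this, Set.ncard_empty]
    exact Nat.zero_le _

theorem eig_orb_le (g : G) (c : ZMod p) (w : V) :
    {x | x ∈ orb ρ w ∧ ρ g x = c • x}.ncard ≤ Nat.card (centralizer ({g} : Set G)) := by
  classical
  let _ := Fintype.ofFinite G
  let _ := Fintype.ofFinite V
  set s := Nat.card (stab ρ w) with hs
  have spos : 0 < s := Nat.card_pos
  set E : Finset V := Finset.univ.filter fun x => x ∈ orb ρ w ∧ ρ g x = c • x with hE
  set S : Finset G := Finset.univ.filter fun a => ρ a w ∈ E with hS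
  set X : Finset G := Finset.univ.filter fun x => ρ x w = c • w with hX
  have hEc : {x | x ∈ orb ρ w ∧ ρ g x = c • x}.ncard = E.card := by
    rw [← Set.ncard_coe_finset]
    congr 1
    ext x
    simp [hE]
  have h1 : s * E.card ≤ S.card := by
    refine Finset.mul_card_image_le_card_of_maps_to (f := fun a => ρ a w) (s := S) (t := E)
      (fun a ha => (Finset.mem_filter.1 ha).2) s ?_
    intro y hy
    obtain ⟨a, rfl⟩ := (Finset.mem_filter.1 hy).2.1
    rw [hs, ← Cnt1_fib w a, ← Set.ncard_coe_finset]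
    refine Set.ncard_le_ncard (fun b hb => ?_) (Set.toFinite _)
    have hb' : ρ b w = ρ a w := hb
    simp only [Finset.coe_filter, Set.mem_setOf_eq]
    exact ⟨Finset.mem_filter.2 ⟨Finset.mem_univ _, hb' ▸ hy⟩, hb'⟩
  have h2 : S.card ≤ Nat.card (centralizer ({g} : Set G)) * X.card := by
    refine Finset.card_le_mul_card_image_of_maps_to (f := fun a => a⁻¹ * g * a) (s := S) (t := X)
      (fun a ha => ?_) _ ?_
    · have := (Finset.mem_filter.1 (Finset.mem_filter.1 ha).2).2.2
      refine Finset.mem_filter.2 ⟨Finset.mem_univ _, ?_⟩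
      rw [map_mul, map_mul, LinearEquiv.mul_apply, LinearEquiv.mul_apply, this, map_smul,
        ← LinearEquiv.mul_apply, ← map_mul, inv_mul_cancel, map_one, LinearEquiv.coe_one, id]
    · intro x hx
      refine le_trans ?_ (Cnt1_cfib g x)
      rw [← Set.ncard_coe_finset]
      refine Set.ncard_le_ncard (fun b hb => ?_) (Set.toFinite _)
      simp only [Finset.coe_filter, Set.mem_setOf_eq] at hb
      exact hb.2
  have h3 : X.card ≤ s := by
    refine le_trans ?_ (Cnt1_fib_le (ρ := ρ) w (c • w))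
    rw [← Set.ncard_coe_finset]
    refine Set.ncard_le_ncard (fun b hb => ?_) (Set.toFinite _)
    simp only [hX, Finset.coe_filter, Set.mem_setOf_eq] at hb
    exact hb.2
  rw [hEc]
  refine Nat.le_of_mul_le_mul_left ?_ spos
  calc s * E.card ≤ Nat.card (centralizer ({g} : Set G)) * X.card := h1.trans h2
    _ ≤ Nat.card (centralizer ({g} : Set G)) * s := Nat.mul_le_mul_left _ h3
    _ = _ := Nat.mul_comm _ _

theorem Cnt1_sum_orb (w : V) :
    ∑ x ∈ (Set.toFinite (orb ρ w)).toFinset, Nat.card (stab ρ x) = Nat.card G := by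
  have hpos : 0 < (orb ρ w).ncard := (Set.ncard_pos (Set.toFinite _)).2 ⟨w, self_mem_orb w⟩
  have key : ∀ x ∈ (Set.toFinite (orb ρ w)).toFinset,
      Nat.card (stab ρ x) = Nat.card (stab ρ w) := by
    intro x hx
    rw [Set.Finite.mem_toFinset] at hx
    have e1 := (stab ρ x).card_mul_index
    have e2 := (stab ρ w).card_mul_index
    rw [← ncard_orb] at e1 e2
    rw [orb_eq_of_mem hx, ← e2] at e1
    exact Nat.eq_of_mul_eq_mul_right hpos e1
  rw [Finset.sum_congr rfl key, Finset.sum_const, smul_eq_mul, ← Set.ncard_eq_toFinset_card,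
    ncard_orb, Nat.mul_comm, card_mul_index]

theorem Bad.sum_eig [Fintype G] (h : Bad ρ u v) (hs : Scal ρ) :
    ∑ g : G, ∑ c : (ZMod p)ˣ, {x : V | x ≠ 0 ∧ ρ g x = (c : ZMod p) • x}.ncard =
      2 * (p - 1) * Nat.card G := by
  classical
  let _ := Fintype.ofFinite V
  set Z : Finset V := Finset.univ.filter fun x => x ≠ 0 with hZ
  have e1 : ∀ (g : G) (c : (ZMod p)ˣ), {x : V | x ≠ 0 ∧ ρ g x = (c : ZMod p) • x}.ncard =
      ∑ x ∈ Z, if ρ g x = (c : ZMod p) • x then 1 else 0 := by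
    intro g c
    rw [← Finset.card_filter, ← Set.ncard_coe_finset]
    congr 1
    ext x
    simp [hZ]
  have e2 : ∀ (c : (ZMod p)ˣ) (x : V),
      (∑ g : G, if ρ g x = (c : ZMod p) • x then 1 else 0) = Nat.card (stab ρ x) := by
    intro c x
    obtain ⟨a, ha⟩ := hs c c.ne_zero x
    rw [← Finset.card_filter, ← Cnt1_fib x a, ← Set.ncard_coe_finset]
    congr 1
    ext b
    simp only [Finset.coe_filter, Finset.mem_univ, true_and, Set.mem_setOf_eq]
    rw [show ρ a x = (c : ZMod p) • x from ha]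
  have h0 : ∀ w : V, w ≠ 0 → ∀ x ∈ orb ρ w, x ≠ 0 := by
    rintro w hw x ⟨a, rfl⟩ hx
    exact hw ((ρ a).map_eq_zero_iff.1 hx)
  have e3 : Z = (Set.toFinite (orb ρ u)).toFinset ∪ (Set.toFinite (orb ρ v)).toFinset := by
    ext x
    simp only [hZ, Finset.mem_filter, Finset.mem_univ, true_and, Finset.mem_union,
      Set.Finite.mem_toFinset]
    exact ⟨h.cov x, fun hx => hx.elim (h0 u h.u0 x) (h0 v h.v0 x)⟩
  have e4 : Disjoint (Set.toFinite (orb ρ u)).toFinset (Set.toFinite (orb ρ v)).toFinset := by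
    rw [Finset.disjoint_left]
    intro x h1 h2
    rw [Set.Finite.mem_toFinset] at h1 h2
    exact h.ne (orb_eq_of_mem h1 ▸ (orb_eq_of_mem h2).symm ▸ self_mem_orb v)
  have e5 : ∑ x ∈ Z, Nat.card (stab ρ x) = 2 * Nat.card G := by
    rw [e3, Finset.sum_union e4, Cnt1_sum_orb, Cnt1_sum_orb, two_mul]
  simp_rw [e1]
  rw [Finset.sum_comm]
  have e6 : ∀ c : (ZMod p)ˣ, (∑ g : G, ∑ x ∈ Z, if ρ g x = (c : ZMod p) • x then 1 else 0) =
      2 * Nat.card G := by
    intro c
    rw [Finset.sum_comm, ← e5]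
    exact Finset.sum_congr rfl fun x _ => e2 c x
  rw [Finset.sum_congr rfl fun c _ => e6 c, Finset.sum_const, smul_eq_mul, Finset.card_univ,
    ZMod.card_units]
  ring

end Cfsg.Agent.K3C
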