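import Mathlib
import Cfsg.Agent.K3C.Defs
import Cfsg.Agent.K3C.Cnt1
import Cfsg.Agent.FG.ClassCount

set_option autoImplicit false

namespace Cfsg.Agent.K3C

open Cfsg Subgroup GT.Frob Module Ch Ch.KT

variable {p : ℕ} [hp : Fact p.Prime] {V : Type*} [AddCommGroup V] [Module (ZMod p) V] [Finite V]
  {G : Type*} [Group G] [Finite G] {ρ : G →* (V ≃ₗ[ZMod p] V)} {u v : V}

theorem cnt2_sum (T : End (ZMod p) V) :
    ∑ c : (ZMod p)ˣ, finrank (ZMod p) (T.eigenspace c) ≤ finrank (ZMod p) V := by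
  classical
  have h : iSupIndep fun c : (ZMod p)ˣ => T.eigenspace c := T.eigenspaces_iSupIndep.comp Units.val_injective
  rw [← finrank_directSum]
  exact LinearMap.finrank_le_finrank_of_injective
    (f := DirectSum.coeLinearMap fun c : (ZMod p)ˣ => T.eigenspace c) h.dfinsupp_lsum_injective

theorem cnt2_one (h : Bad ρ u v) (hs : Scal ρ) (g : G) (c : ZMod p) :
    {x : V | x ≠ 0 ∧ ρ g x = c • x}.ncard ≤
      finrank (ZMod p) (End.eigenspace (ρ g : V →ₗ[ZMod p] V) c) * Nat.card (centralizer ({g} : Set G)) := by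
  have hm : ∀ {x : V}, ρ g x = c • x → x ∈ End.eigenspace (ρ g : V →ₗ[ZMod p] V) c := fun e =>
    End.mem_eigenspace_iff.2 e
  rcases Set.eq_empty_or_nonempty {x : V | x ≠ 0 ∧ ρ g x = c • x} with e | ⟨w, w0, hw⟩
  · rw [e, Set.ncard_empty]; exact Nat.zero_le _
  have w1 : (⟨w, hm hw⟩ : End.eigenspace (ρ g : V →ₗ[ZMod p] V) c) ≠ 0 := fun e => w0 (congrArg Subtype.val e)
  by_cases h1 : finrank (ZMod p) (End.eigenspace (ρ g : V →ₗ[ZMod p] V) c) = 1
  · rw [h1, one_mul]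
    refine (Set.ncard_le_ncard ?_ (Set.toFinite _)).trans (eig_orb_le (ρ := ρ) g c w)
    rintro x ⟨x0, hx⟩
    obtain ⟨a, ha⟩ := (finrank_eq_one_iff_of_nonzero' _ w1).1 h1 ⟨x, hm hx⟩
    obtain rfl : a • w = x := congrArg Subtype.val ha
    exact ⟨hs a (left_ne_zero_of_smul x0) w, hx⟩
  · have h0 : 0 < finrank (ZMod p) (End.eigenspace (ρ g : V →ₗ[ZMod p] V) c) :=
      finrank_pos_iff_exists_ne_zero.2 ⟨_, w1⟩
    refine le_trans ?_ (Nat.mul_le_mul_right _ (show 2 ≤ _ by omega))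
    rw [two_mul]
    refine le_trans ?_ (add_le_add (eig_orb_le (ρ := ρ) g c u) (eig_orb_le (ρ := ρ) g c v))
    refine (Set.ncard_le_ncard ?_ (Set.toFinite _)).trans (Set.ncard_union_le _ _)
    rintro x ⟨x0, hx⟩
    exact (h.cov x x0).imp (⟨·, hx⟩) (⟨·, hx⟩)

theorem Bad.eig_le (h : Bad ρ u v) (hs : Scal ρ) (g : G) :
    ∑ c : (ZMod p)ˣ, {x : V | x ≠ 0 ∧ ρ g x = (c : ZMod p) • x}.ncard ≤
      finrank (ZMod p) V * Nat.card (centralizer ({g} : Set G)) := by
  refine (Finset.sum_le_sum fun (c : (ZMod p)ˣ) _ => cnt2_one h hs g c).trans ?_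
  rw [← Finset.sum_mul]
  exact Nat.mul_le_mul_right _ (cnt2_sum _)

theorem cnt2_id (h : Bad ρ u v) :
    ∑ c : (ZMod p)ˣ, {x : V | x ≠ 0 ∧ ρ 1 x = (c : ZMod p) • x}.ncard ≤ 2 * Nat.card G := by
  rw [Finset.sum_eq_single 1 (fun c _ hc => ?_) fun e => absurd (Finset.mem_univ _) e]
  · rw [two_mul]
    refine le_trans ?_ (add_le_add (Nat.le_of_dvd Nat.card_pos (ncard_orb_dvd (ρ := ρ) u))
      (Nat.le_of_dvd Nat.card_pos (ncard_orb_dvd (ρ := ρ) v)))
    exact (Set.ncard_le_ncard (fun x hx => h.cov x hx.1) (Set.toFinite _)).trans (Set.ncard_union_le _ _)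
  · rw [Set.ncard_eq_zero, Set.eq_empty_iff_forall_notMem]
    rintro x ⟨x0, hx⟩
    rw [map_one] at hx
    exact hc (Units.ext (smul_left_injective (ZMod p) x0 (hx.symm.trans (one_smul _ x).symm)))

theorem Bad.five (h : Bad ρ u v) (hs : Scal ρ) : 5 ≤ finrank (ZMod p) V := by
  classical
  by_contra! hn
  have := Fintype.ofFinite G
  have key : ∀ g ∈ (Finset.univ : Finset G), ∑ c : (ZMod p)ˣ, {x : V | x ≠ 0 ∧ ρ g x = (c : ZMod p) • x}.ncard +
      (if g = 1 then 2 * Nat.card G else 0) ≤ 4 * Nat.card (centralizer ({g} : Set G)) := fun g _ => by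
    split_ifs with e
    · subst e
      have h1 := cnt2_id h
      have h2 : centralizer ({1} : Set G) = ⊤ := eq_top_iff.2 fun x _ => mem_centralizer_singleton_iff.2 (by simp)
      rw [h2, card_top]
      omega
    · exact (h.eig_le hs g).trans (Nat.mul_le_mul_right _ (by omega))
  have h1 := Finset.sum_le_sum key
  rw [Finset.sum_add_distrib, h.sum_eig hs, ← Finset.mul_sum, FG.sum_card_centralizer, Finset.sum_ite_eq',
    if_pos (Finset.mem_univ _), ← add_mul, ← mul_assoc] at h1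
  have h2 := Nat.le_of_mul_le_mul_right h1 Nat.card_pos
  have := h.few
  have := hp.out.two_le
  omega

end Cfsg.Agent.K3C
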