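import Mathlib
import Cfsg.Agent.K3C.Defs
import Cfsg.Agent.NT.Zsigmondy

set_option autoImplicit false

namespace Cfsg.Agent.K3C

open Cfsg Subgroup GT.Frob Module Ch Ch.KT

universe w

variable {p : ℕ} [hp : Fact p.Prime] {V : Type w} [AddCommGroup V] [Module (ZMod p) V] [Finite V]
  {G : Type*} [Group G] [Finite G] {ρ : G →* (V ≃ₗ[ZMod p] V)}

theorem irr_or_field [Nontrivial V] (hρ : Function.Injective ρ) {N : Subgroup G} [N.Normal]
    (hF : FieldOn ρ N) {m r : ℕ} (hr : Ppd p m r) (hm : 0 < m) (hN : r ∣ Nat.card N)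
    (hV : finrank (ZMod p) V ≤ 2 * m) : IrrOn ρ N ∨
      ∃ (K : Type w) (_ : Field K) (_ : Finite K) (_ : CharP K p) (_ : Module K V),
        finrank K V = 2 ∧ (centralizer (N : Set G)).index ∣ m ∧
        ∀ g ∈ centralizer (N : Set G), ∀ (c : K) (x : V), ρ g (c • x) = c • ρ g x := by
  have : Finite (Module.End (ZMod p) V) := Finite.of_injective _ DFunLike.coe_injective
  let _ := hF.isField.toField
  let f : N →* (linAlg ρ N)ˣ := (((linRep ρ).comp N.subtype).codRestrict (linAlg ρ N)
    fun a => linRep_mem a.2).toHomUnits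
  have hf : Function.Injective f := fun a b e =>
    Subtype.ext (linRep_injective hρ (congrArg (fun u : (linAlg ρ N)ˣ => u.1.1) e))
  have h1 : Nat.card (linAlg ρ N) = p ^ finrank (ZMod p) (linAlg ρ N) := by
    rw [Module.natCard_eq_pow_finrank (K := ZMod p), Nat.card_zmod]
  have h2 : Nat.card N ∣ p ^ finrank (ZMod p) (linAlg ρ N) - 1 := by
    rw [← h1, ← Nat.card_units]
    exact card_dvd_of_injective f hf
  have h3 : (centralizer (N : Set G)).relIndex (normalizer (N : Set G)) ∣ finrank (ZMod p) (linAlg ρ N) := by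
    rw [← IsGalois.card_aut_eq_finrank]
    refine (index_dvd_of_le (linConj_ker_le hρ)).trans ?_
    rw [index_ker]
    exact card_subgroup_dvd_card _
  rw [normalizer_eq_top, relIndex_top_right] at h3
  have h4 : finrank (ZMod p) (linAlg ρ N) * finrank (linAlg ρ N) V = finrank (ZMod p) V :=
    Module.finrank_mul_finrank _ _ _
  have h5 : orderOf (p : ZMod r) = m := (NT.primitive_iff_orderOf_eq hp.out.one_le hm).1 ⟨hr.2.1, hr.2.2⟩
  have h6 : m ∣ finrank (ZMod p) (linAlg ρ N) :=
    h5 ▸ (NT.dvd_pow_sub_one_iff_orderOf_dvd hp.out.one_le _).1 (hN.trans h2)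
  have k0 : 0 < finrank (ZMod p) (linAlg ρ N) := Module.finrank_pos
  have d0 : 0 < finrank (linAlg ρ N) V := Module.finrank_pos
  by_cases hd : finrank (linAlg ρ N) V = 1
  · refine Or.inl fun W hW => ?_
    rw [or_iff_not_imp_left]
    intro h0
    obtain ⟨x, hx, hx0⟩ := W.exists_mem_ne_zero_of_ne_bot h0
    refine eq_top_iff.mpr fun v _ => ?_
    obtain ⟨c, rfl⟩ := (finrank_eq_one_iff_of_nonzero' x hx0).mp hd v
    exact apply_mem_of_mem_linAlg hW c.2 x hx
  · have h7 : m ≤ finrank (ZMod p) (linAlg ρ N) := Nat.le_of_dvd k0 h6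
    have h8 : finrank (linAlg ρ N) V = 2 := by
      by_contra h9
      have : 3 ≤ finrank (linAlg ρ N) V := by omega
      nlinarith
    have h9 : finrank (ZMod p) (linAlg ρ N) = m := by
      rw [h8] at h4
      omega
    refine Or.inr ⟨linAlg ρ N, inferInstance, inferInstance,
      charP_of_injective_algebraMap (algebraMap (ZMod p) (linAlg ρ N)).injective p, inferInstance, h8, h9 ▸ h3,
      fun g hg c x => ?_⟩
    have h10 : Commute (linRep ρ g) c.1 := commute_of_mem_linAlg (fun a ha => by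
      rw [Commute, SemiconjBy, ← map_mul, ← map_mul, mem_centralizer_iff.mp hg a ha]) c.2
    exact LinearMap.congr_fun h10.eq x

end Cfsg.Agent.K3C
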