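import Mathlib
import Cfsg.Agent.K3C.Defs
import Cfsg.Agent.K3C.Fld

set_option autoImplicit false

namespace Cfsg.Agent.K3C

open Cfsg Subgroup GT.Frob Module Ch Ch.KT

variable {p : ℕ} [hp : Fact p.Prime] {V : Type*} [AddCommGroup V] [Module (ZMod p) V] [Finite V]
  {G : Type*} [Group G] [Finite G] {ρ : G →* (V ≃ₗ[ZMod p] V)} {u v : V}

/-- A faithful irreducible `r`-group in dimension at most `2 m` is cyclic. -/
theorem ord_cyclic [Nontrivial V] (hρ : Function.Injective ρ) (hI : IrrOn ρ ⊤) {r m : ℕ} [hr' : Fact r.Prime]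
    (hG : IsPGroup r G) (hr : Ppd p m r) (hm : 0 < m) (h2 : r ≠ 2) (hV : finrank (ZMod p) V ≤ 2 * m) :
    IsCyclic G := by
  have key : ∀ N : Subgroup G, IrrOn ρ N → centralizer (N : Set G) = ⊤ → IsCyclic G := fun N h e => by
    have := h.isCyclic_centralizer hρ
    rw [e] at this
    exact isCyclic_of_surjective _ topEquiv.surjective
  rcases subsingleton_or_nontrivial G with _ | _
  · infer_instance
  obtain ⟨j, hj⟩ := IsPGroup.iff_card.1 hG
  have odd : ¬ 2 ∣ Nat.card G := fun e =>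
    h2 ((Nat.prime_dvd_prime_iff_eq Nat.prime_two hr'.out).1 (Nat.prime_two.dvd_of_dvd_pow (hj ▸ e))).symm
  have cz : centralizer (center G : Set G) = ⊤ := eq_top_iff.2 fun g _ z hz => (mem_center_iff.1 hz g).symm
  have := hG.center_nontrivial
  have rz : r ∣ Nat.card (center G) :=
    ((hG.to_subgroup (center G)).card_eq_or_dvd).resolve_left Finite.one_lt_card.ne'
  rcases irr_or_field hρ (N := center G) (hI.fieldOn_centralizer.mono fun z hz g _ => mem_center_iff.1 hz g)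
    hr hm rz hV with h | ⟨K, _, _, _, _, k1, -, k2⟩
  · exact key _ h cz
  let _ := DistribMulAction.compHom V ρ
  have : FaithfulSMul G V := ⟨fun h => hρ (LinearEquiv.ext h)⟩
  have pr : ¬ p ∣ Nat.card G := fun e => by
    obtain rfl := (Nat.prime_dvd_prime_iff_eq hp.out hr'.out).1 (hp.out.dvd_of_dvd_pow (hj ▸ e))
    have h1 := hr.2.1
    have h3 : p ∣ p ^ m := dvd_pow_self p hm.ne'
    have h4 := (Nat.dvd_sub_iff_right (Nat.one_le_pow m p hp.out.pos) h3).1 h1
    exact hp.out.one_lt.ne' (Nat.dvd_one.1 h4)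
  rcases two_dim_quot (K := K) (W := V) (C := G) p pr (fun g => k2 g (cz.ge trivial)) k1
    with ⟨L, l1, l2, l3⟩ | ⟨B, b1, b2⟩ | ⟨π, -, -, h⟩
  · rcases hI (AddSubgroup.toZModSubmodule p L.toAddSubgroup) (fun a _ => l3 a) with e | e
    · exact (l1 (eq_bot_iff.2 e.le)).elim
    · exact (l2 (eq_top_iff.2 e.ge)).elim
  · have b3 : B.index = 1 := by
      have := B.index_ne_zero_of_finite
      have := B.index_dvd_card
      by_contra h
      exact odd ((show B.index = 2 by omega) ▸ this)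
    obtain rfl := index_eq_one.1 b3
    exact key ⊤ hI (eq_top_iff.2 fun g _ a _ =>
      congrArg Subtype.val (b1.is_comm.comm (⟨a, trivial⟩ : (⊤ : Subgroup G)) ⟨g, trivial⟩))
  · refine (odd (Dvd.dvd.trans ?_ (card_range_dvd π))).elim
    rcases h with ⟨⟨e⟩⟩ | ⟨⟨e⟩⟩ | ⟨⟨e⟩⟩ <;> rw [Nat.card_congr e.toEquiv]
    · rw [card_alt_four]; norm_num
    · rw [card_perm_four]; norm_num
    · rw [card_alt_five]; norm_num

theorem exists_order [Nontrivial V] (σ : G →* (V ≃ₗ[ZMod p] V)) {r m e : ℕ} [Fact r.Prime]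
    (hG : IsPGroup r G) (hr : Ppd p m r) (hm : 0 < m) (h2 : r ≠ 2) (hV : finrank (ZMod p) V ≤ 2 * m)
    (he : ∀ w : V, w ≠ 0 → r ^ e ∣ (stab σ w).index) : ∃ y : G, r ^ e ∣ orderOf y := by
  obtain ⟨W, ⟨W0, hW⟩, hmin⟩ := (wellFounded_lt (α := Submodule (ZMod p) V)).has_min
    {W | W ≠ ⊥ ∧ ∀ g, ∀ x ∈ W, σ g x ∈ W} ⟨⊤, top_ne_bot, fun _ _ _ => trivial⟩
  let τ0 : G →* (W →ₗ[ZMod p] W) :=
    { toFun := fun g => (σ g).toLinearMap.restrict (hW g)
      map_one' := by ext x; simp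
      map_mul' := fun a b => by ext x; simp }
  let τ : G →* (W ≃ₗ[ZMod p] W) :=
    (LinearMap.GeneralLinearGroup.generalLinearEquiv (ZMod p) W).toMonoidHom.comp τ0.toHomUnits
  have hτ : ∀ g (x : W), (τ g x : V) = σ g x := fun _ _ => rfl
  have : Nontrivial W := Submodule.nontrivial_iff_ne_bot.2 W0
  have hI : IrrOn τ.range.subtype ⊤ := fun U hU => by
    by_contra! h
    refine hmin (U.map W.subtype) ⟨fun e => h.1 (Submodule.map_injective_of_injective W.subtype_injective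
      (e.trans (Submodule.map_bot _).symm)), ?_⟩ ?_
    · rintro g _ ⟨x, hx, rfl⟩
      exact ⟨τ g x, hU ⟨τ g, g, rfl⟩ trivial x hx, rfl⟩
    · refine lt_of_le_of_ne (Submodule.map_subtype_le _ _) fun e => h.2 ?_
      exact Submodule.map_injective_of_injective W.subtype_injective (e.trans (Submodule.map_subtype_top W).symm)
  have : Finite τ.range := Finite.of_surjective _ τ.rangeRestrict_surjective
  have hc := ord_cyclic τ.range.subtype_injective hI (hG.of_surjective _ τ.rangeRestrict_surjective) hr hm h2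
    (W.finrank_le.trans hV)
  obtain ⟨z, hz⟩ := IsCyclic.exists_generator (α := τ.range)
  obtain ⟨y, rfl⟩ := τ.rangeRestrict_surjective z
  obtain ⟨w, w0⟩ := exists_ne (0 : W)
  have hk : τ.ker ≤ stab σ w := fun g hg => by
    rw [mem_stab, ← hτ, MonoidHom.mem_ker.1 hg]; rfl
  refine ⟨y, ((he w fun e => w0 (Subtype.ext e)).trans (index_dvd_of_le hk)).trans ?_⟩
  rw [index_ker, ← orderOf_eq_card_of_forall_mem_zpowers hz]
  exact orderOf_map_dvd _ _

end Cfsg.Agent.K3C
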