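import Mathlib
import Cfsg.Agent.K3C.Defs
import Cfsg.Agent.Blk.OneRed

set_option autoImplicit false

namespace Cfsg.Agent.K3C

open Cfsg Subgroup GT.Frob Module Ch Ch.KT

variable {p : ℕ} [hp : Fact p.Prime] {V : Type*} [AddCommGroup V] [Module (ZMod p) V] [Finite V]
  {G : Type*} [Group G] [Finite G] {ρ : G →* (V ≃ₗ[ZMod p] V)} {u v : V}

theorem uni_pgroup {r : ℕ} [hr : Fact r.Prime] {K : Subgroup G} (h : ∀ g ∈ K, ¬ r ∣ orderOf g → g = 1) :
    IsPGroup r K :=
  IsPGroup.of_card (Nat.eq_prime_pow_of_unique_prime_dvd Nat.card_pos.ne' fun {q} hq hd => by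
    have := Fact.mk hq
    obtain ⟨y, hy⟩ := exists_prime_orderOf_dvd_card' q hd
    by_contra hne
    rw [← orderOf_coe] at hy
    rw [h y y.2 (by rw [hy, Nat.prime_dvd_prime_iff_eq hr.out hq]; exact Ne.symm hne), orderOf_one] at hy
    exact hq.ne_one hy.symm)

theorem uni_sub {k R : Type*} [Field k] [Ring R] [Algebra k R] (r : ℕ) [Fact r.Prime] [CharP k r] (x : R) (n : ℕ) :
    (x - 1) ^ r ^ n = x ^ r ^ n - 1 := by
  have h := congrArg (Polynomial.aeval x) (sub_pow_char_pow (R := Polynomial k) (p := r) Polynomial.X 1 n)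
  simpa using h

theorem pow_mem_pCore {χ : G → ℂ} (hχ : IsCharacter G χ) (hf : charKer χ = ⊥) {r a j : ℕ}
    [Fact r.Prime] {y : G} (hy : orderOf y = r ^ j) (ha : charDegree χ ≤ r ^ a) :
    y ^ r ^ a ∈ pCore r G := by
  have hr : r.Prime := Fact.out
  obtain ⟨A, hA⟩ := Blk.TID.exists_valuationSubring hr
  obtain ⟨σ, hσ⟩ := Blk.One.exists_int_rep hχ A
  let f := (algebraMap _ (AlgebraicClosure (IsLocalRing.ResidueField A))).comp (IsLocalRing.residue A)
  have hK : IsPGroup r (Blk.One.redRep f σ).ker := uni_pgroup fun g hg hg' => by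
    have h1 : f.mapMatrix (σ g) = 1 := Matrix.toLinAlgEquiv'.injective (hg.trans (map_one _).symm)
    have h2 : IsUnit (∑ i ∈ Finset.range (orderOf g), σ g ^ i) := by
      rw [Matrix.isUnit_iff_isUnit_det, ← isUnit_map_iff f, RingHom.map_det, map_sum]
      simp only [map_pow, h1, one_pow, Finset.sum_const, Finset.card_range]
      rw [← Nat.cast_smul_eq_nsmul (AlgebraicClosure (IsLocalRing.ResidueField A)), Matrix.det_smul]
      simpa using fun h => absurd ((CharP.cast_eq_zero_iff _ r _).1 h) hg'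
    have h3 : σ g = 1 := sub_eq_zero.1 (h2.mul_right_eq_zero.1 (by
      rw [geom_sum_mul, ← map_pow, pow_orderOf_eq_one, map_one, sub_self]))
    exact hf.le (hχ.mem_charKer.2 (by rw [← hσ, ← hσ, h3, map_one]))
  have h0 : (Blk.One.redRep f σ y - 1) ^ charDegree χ = 0 := by
    simpa using Blk.One.pow_finrank_eq_zero (p := r) (n := j) (Blk.One.redRep f σ) (hy ▸ pow_orderOf_eq_one y)
  have hm : y ^ r ^ a ∈ (Blk.One.redRep f σ).ker := by
    rw [MonoidHom.mem_ker, map_pow, ← sub_eq_zero,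
      ← uni_sub (k := AlgebraicClosure (IsLocalRing.ResidueField A)) r]
    exact pow_eq_zero_of_le ha h0
  exact GT.le_pCore hK hm

end Cfsg.Agent.K3C
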