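import Mathlib
import Cfsg.Agent.K3C.Defs
import Cfsg.Agent.K3C.Small
import Cfsg.Agent.K3C.Ord
import Cfsg.Agent.K3C.Uni

set_option autoImplicit false

namespace Cfsg.Agent.K3C

open Cfsg Subgroup GT.Frob Module Ch Ch.KT

variable {p : ℕ} [hp : Fact p.Prime] {V : Type*} [AddCommGroup V] [Module (ZMod p) V] [Finite V]
  {G : Type*} [Group G] [Finite G] {ρ : G →* (V ≃ₗ[ZMod p] V)} {u v : V}

theorem core_num (k : ℕ) : (4 * (k + 1) + 1) ^ 3 < 11 ^ (2 * k + 1) ∨ k < 2 := by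
  induction k with
  | zero => exact Or.inr (by norm_num)
  | succ k ih =>
    rcases Nat.lt_or_ge (k + 1) 2 with h | h
    · exact Or.inr h
    rcases ih with ih | ih
    · left
      have h1 : (4 * (k + 1 + 1) + 1) ^ 3 ≤ (4 * (4 * (k + 1) + 1)) ^ 3 :=
        Nat.pow_le_pow_left (by omega) 3
      have h2 : 11 ^ (2 * (k + 1) + 1) = 121 * 11 ^ (2 * k + 1) := by ring
      rw [mul_pow] at h1
      omega
    · obtain rfl : k = 1 := by omega
      left; norm_num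

theorem Bad.pCore_big (h : Bad ρ u v) {m r : ℕ} [Fact r.Prime] (hn : finrank (ZMod p) V = 2 * m)
    (hm : 3 ≤ m) (hr : r ∣ Nat.card G) (hl : 4 * m + 1 ≤ r) : pCore r G ≠ ⊥ := by
  intro hO
  have pr : r.Prime := Fact.out
  obtain ⟨χ, hχ, hf, hd⟩ := exists_char h.inj h.cop
  rw [hn] at hd
  by_cases h2 : r ^ 2 ∣ Nat.card G
  · have := Blk.Lin.not_sq_dvd (p := r) (by omega) hχ hf (by omega)
    rw [hO, index_bot] at this
    exact this h2
  rcases normal_or_psl hχ hf (r := r) (by omega) hr h2 with ⟨H, hH, hc⟩ | ⟨e1, e2⟩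
  · have h1 : H ≤ pCore r G := le_sSup ⟨hH, IsPGroup.of_card (n := 1) (by rw [hc, pow_one])⟩
    rw [hO, le_bot_iff] at h1
    rw [h1, card_bot] at hc
    exact pr.one_lt.ne hc
  · obtain ⟨k, rfl⟩ : ∃ k, m = k + 1 := ⟨m - 1, by omega⟩
    have h1 := h.le_card
    have h3 := h.center_lt
    have h4 := h.eleven
    have h5 : r ^ 3 < 11 ^ (2 * k + 1) := by
      rw [← e1, hd, ← mul_assoc]
      exact (core_num k).resolve_right (by omega)
    have h6 : 11 ^ (2 * k + 1) ≤ p ^ (2 * k + 1) := Nat.pow_le_pow_left h4 _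
    have h7 : p ^ (2 * (k + 1)) = p * p ^ (2 * k + 1) := by ring
    rw [hn, e2, h7] at h1
    have h8 : r * (r ^ 2 - 1) ≤ r ^ 3 := by
      rw [pow_succ' r 2]
      exact Nat.mul_le_mul_left _ (Nat.sub_le _ _)
    have h9 : Nat.card (center G) * (r * (r ^ 2 - 1)) ≤ p * r ^ 3 := Nat.mul_le_mul (by omega) h8
    have h10 : p * (r ^ 3 + 1) ≤ p * p ^ (2 * k + 1) := Nat.mul_le_mul_left _ (by omega)
    rw [mul_add] at h10
    omega

omit hp in
theorem core_syl {r e : ℕ} [hr : Fact r.Prime] (P : Sylow r G) (S : Subgroup G) (h : r ^ e ∣ S.index) :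
    r ^ e ∣ (S.subgroupOf P).index := by
  have h1 : S.relIndex P * (P : Subgroup G).index = (S ⊓ P).index := by
    rw [← relIndex_mul_index (inf_le_right : S ⊓ P ≤ P), inf_relIndex_right]
  have h2 : r ^ e ∣ S.relIndex P * (P : Subgroup G).index :=
    h1 ▸ h.trans (index_dvd_of_le inf_le_left)
  exact (Nat.Coprime.pow_left e ((Nat.Prime.coprime_iff_not_dvd hr.out).2 P.not_dvd_index)).dvd_of_dvd_mul_right h2

theorem Bad.core_aux (h : Bad ρ u v) {m r a : ℕ} [Fact r.Prime] (hn : finrank (ZMod p) V = 2 * m)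
    (hm : 3 ≤ m) (hd : ∀ w : V, w ≠ 0 → p ^ m - 1 ∣ (orb ρ w).ncard) (hr : Ppd p m r) (h2 : r ≠ 2)
    (ha : 2 * m ≤ r ^ a) (he : r ^ (a + 1) ∣ p ^ m - 1) : pCore r G ≠ ⊥ := by
  intro hO
  have := h.nontrivial
  obtain ⟨χ, hχ, hf, hg⟩ := exists_char h.inj h.cop
  obtain ⟨P⟩ : Nonempty (Sylow r G) := inferInstance
  obtain ⟨y, hy⟩ := exists_order (ρ.comp (P : Subgroup G).subtype) (e := a + 1) P.isPGroup' hr (by omega) h2
    hn.le fun w hw => core_syl P (stab ρ w) (ncard_orb (ρ := ρ) w ▸ he.trans (hd w hw))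
  obtain ⟨j, hj⟩ := IsPGroup.iff_orderOf.1 P.isPGroup' y
  rw [← Subgroup.orderOf_coe] at hy hj
  have h1 := pow_mem_pCore hχ hf hj (a := a) (by omega)
  rw [hO, mem_bot, ← orderOf_dvd_iff_pow_eq_one] at h1
  have h3 := (Nat.pow_dvd_pow_iff_le_right hr.1.one_lt).1 (hy.trans h1)
  omega

theorem Bad.pCore_pow (h : Bad ρ u v) {m r : ℕ} [Fact r.Prime] (hn : finrank (ZMod p) V = 2 * m)
    (hm : 3 ≤ m) (hd : ∀ w : V, w ≠ 0 → p ^ m - 1 ∣ (orb ρ w).ncard) (hr : Ppd p m r)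
    (hl : (2 * m ≤ r ∧ r ^ 2 ∣ p ^ m - 1) ∨ r ^ 3 ∣ p ^ m - 1) : pCore r G ≠ ⊥ := by
  have h2 := (NT.primitive_iff_orderOf_eq hp.out.pos (by omega)).1 ⟨hr.2.1, hr.2.2⟩
  have h3 := NT.lt_of_orderOf_eq hr.1 (by omega) h2
  rcases hl with ⟨h4, h5⟩ | h5
  · exact h.core_aux (a := 1) hn hm hd hr (by omega) (by rwa [pow_one]) h5
  · exact h.core_aux (a := 2) hn hm hd hr (by omega) (by nlinarith) h5

end Cfsg.Agent.K3C
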