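import Mathlib
import Cfsg.Agent.K3C.Defs
import Cfsg.Agent.K3C.Bas

/-! The contragredient representation has the same number of orbits. -/

set_option autoImplicit false

namespace Cfsg.Agent.K3C

open Cfsg Subgroup GT.Frob Module Ch Ch.KT

variable {p : ℕ} [hp : Fact p.Prime] {V : Type*} [AddCommGroup V] [Module (ZMod p) V] [Finite V]
  {G : Type*} [Group G] [Finite G] {ρ : G →* (V ≃ₗ[ZMod p] V)} {u v : V}

theorem dual1_burn [Fintype G] (ρ : G →* (V ≃ₗ[ZMod p] V)) :
    ∑ g : G, Nat.card {w // ρ g w = w} = (Set.range (orb ρ)).ncard * Fintype.card G := by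
  classical
  let _ := DistribMulAction.compHom V ρ
  have := Fintype.ofFinite V
  have := Fintype.ofFinite (Quotient (MulAction.orbitRel G V))
  have k := MulAction.sum_card_fixedBy_eq_card_orbits_mul_card_group G V
  have e : Set.range (orb ρ) = Set.range (MulAction.orbitRel.Quotient.orbit (G := G) (α := V)) := by
    ext S
    exact ⟨fun ⟨w, h⟩ => ⟨Quotient.mk'' w, h⟩, fun ⟨w, h⟩ => by
      induction w using Quotient.inductionOn' with
      | h w => exact ⟨w, h⟩⟩
  rw [e, Set.ncard_range_of_injective MulAction.orbitRel.Quotient.orbit_injective, Nat.card_eq_fintype_card, ← k]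
  exact Finset.sum_congr rfl fun g _ => by rw [← Nat.card_eq_fintype_card]; rfl

theorem dual1_fix (g : G) : Nat.card {f // dualRep ρ g f = f} = Nat.card {w // ρ g w = w} := by
  let T : V →ₗ[ZMod p] V := (ρ g⁻¹).toLinearMap - LinearMap.id
  have e1 : Nat.card {f // dualRep ρ g f = f} = Nat.card (LinearMap.ker T.dualMap) :=
    Nat.card_congr (Equiv.subtypeEquivRight fun f => by
      rw [LinearMap.mem_ker, LinearMap.ext_iff, LinearMap.ext_iff]
      refine forall_congr' fun x => ?_
      simp [T, dualRep_apply, sub_eq_zero])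
  have e2 : Nat.card {w // ρ g w = w} = Nat.card (LinearMap.ker T) :=
    Nat.card_congr (Equiv.subtypeEquivRight fun w => by
      simp only [T, LinearMap.mem_ker, LinearMap.sub_apply, LinearMap.id_apply, sub_eq_zero, map_inv,
        LinearEquiv.coe_coe]
      rw [LinearEquiv.coe_inv, LinearEquiv.symm_apply_eq, eq_comm])
  have h1 := T.finrank_range_add_finrank_ker
  have h2 := T.dualMap.finrank_range_add_finrank_ker
  rw [LinearMap.finrank_range_dualMap_eq_finrank_range, Subspace.dual_finrank_eq] at h2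
  rw [e1, e2, Module.natCard_eq_pow_finrank (K := ZMod p) (V := LinearMap.ker T),
    Module.natCard_eq_pow_finrank (K := ZMod p) (V := LinearMap.ker T.dualMap),
    show finrank (ZMod p) (LinearMap.ker T.dualMap) = finrank (ZMod p) (LinearMap.ker T) by omega]

omit [Finite V] [Finite G] in
theorem dual1_zero {w : V} (h : orb ρ w = orb ρ 0) : w = 0 := by
  obtain ⟨g, e⟩ : w ∈ orb ρ 0 := h ▸ self_mem_orb w
  exact e.symm.trans (map_zero _)

theorem Bad.dual (h : Bad ρ u v) : ∃ l m : Dual (ZMod p) V, Bad (dualRep ρ) l m := by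
  have := Fintype.ofFinite G
  have k : (Set.range (orb ρ)).ncard = 3 := Set.ncard_eq_three.2 ⟨orb ρ 0, orb ρ u, orb ρ v,
    fun e => h.u0 (dual1_zero e.symm), fun e => h.v0 (dual1_zero e.symm), fun e => h.ne (e ▸ self_mem_orb v), by
    ext S
    constructor
    · rintro ⟨w, rfl⟩
      by_cases w0 : w = 0
      · exact .inl (by rw [w0])
      · exact .inr (h.orb_eq w0)
    · rintro (rfl | rfl | rfl) <;> exact ⟨_, rfl⟩⟩
  have k1 := dual1_burn (dualRep ρ)
  rw [Finset.sum_congr rfl fun g _ => dual1_fix g, dual1_burn, k, mul_left_inj' Fintype.card_ne_zero] at k1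
  have k2 := Set.ncard_diff_singleton_of_mem (s := Set.range (orb (dualRep ρ))) ⟨0, rfl⟩
  rw [← k1] at k2
  obtain ⟨x, y, ne, e⟩ := Set.ncard_eq_two.1 k2
  obtain ⟨⟨l, rfl⟩, l0⟩ : x ∈ Set.range (orb (dualRep ρ)) \ {orb (dualRep ρ) 0} := by rw [e]; simp
  obtain ⟨⟨m, rfl⟩, m0⟩ : y ∈ Set.range (orb (dualRep ρ)) \ {orb (dualRep ρ) 0} := by rw [e]; simp
  refine ⟨l, m, (injective_iff_map_eq_one _).2 fun g hg => ?_, h.cop, fun k => l0 (by rw [k]; rfl),
    fun k => m0 (by rw [k]; rfl), fun k => ne (orb_eq_of_mem k).symm, fun w w0 => ?_,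
    by rw [Subspace.dual_finrank_eq]; exact h.two, h.few⟩
  · refine inv_eq_one.1 ((injective_iff_map_eq_one _).1 h.inj _ (LinearEquiv.ext fun x => ?_))
    refine sub_eq_zero.1 ((Module.forall_dual_apply_eq_zero_iff (ZMod p) _).1 fun f => ?_)
    rw [map_sub, ← dualRep_apply, hg]
    exact sub_self _
  · have : orb (dualRep ρ) w ∈ Set.range (orb (dualRep ρ)) \ {orb (dualRep ρ) 0} :=
      ⟨⟨w, rfl⟩, fun k => w0 (dual1_zero k)⟩
    rw [e] at this
    rcases this with k | k
    · exact .inl (k ▸ self_mem_orb w)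
    · exact .inr (Set.mem_singleton_iff.1 k ▸ self_mem_orb w)

end Cfsg.Agent.K3C
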