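import Mathlib
import Cfsg.Agent.K3C.Defs
import Cfsg.Agent.K3C.Bas

set_option autoImplicit false

namespace Cfsg.Agent.K3C

open Cfsg Subgroup GT.Frob Module Ch Ch.KT

variable {p : ℕ} [hp : Fact p.Prime] {V : Type*} [AddCommGroup V] [Module (ZMod p) V] [Finite V]
  {G : Type*} [Group G] [Finite G] {ρ : G →* (V ≃ₗ[ZMod p] V)} {u v : V}

omit [Finite V] in
theorem dual2_avg (hG : ¬ p ∣ Nat.card G) (K : Subgroup G) (φ : V →ₗ[ZMod p] ZMod p) (y : V)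
    (h : ∀ g ∈ K, φ (ρ g y) = 1) : ∃ x, x ≠ 0 ∧ (orb ρ x).ncard ≤ K.index := by
  have := Fintype.ofFinite K
  refine ⟨∑ g : K, ρ g y, fun e => ?_, ?_⟩
  · have h1 := congrArg φ e
    rw [map_sum, Finset.sum_congr rfl fun (g : K) _ => h g g.2, map_zero, Finset.sum_const, Finset.card_univ,
      nsmul_eq_mul, mul_one, ZMod.natCast_eq_zero_iff, ← Nat.card_eq_fintype_card] at h1
    exact hG (h1.trans K.card_subgroup_dvd_card)
  · rw [ncard_orb]
    refine Nat.le_of_dvd (Nat.pos_of_ne_zero K.index_ne_zero_of_finite) (index_dvd_of_le fun k hk => ?_)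
    rw [mem_stab, map_sum]
    exact Fintype.sum_equiv (Equiv.mulLeft (⟨k, hk⟩ : K)) _ _ fun g => by simp

theorem dual2_a (hG : ¬ p ∣ Nat.card G) {w : V} (w0 : w ≠ 0) :
    ∃ f, f ≠ 0 ∧ (orb (dualRep ρ) f).ncard ≤ (orb ρ w).ncard := by
  obtain ⟨f, hf⟩ := Module.Projective.exists_dual_eq_one (ZMod p) w0
  rw [ncard_orb w]
  exact dual2_avg hG _ (Dual.eval (ZMod p) V w) f fun g hg => by
    rw [Dual.eval_apply, dualRep_apply, mem_stab.1 (inv_mem hg), hf]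

theorem dual2_b (hG : ¬ p ∣ Nat.card G) {f : Dual (ZMod p) V} (f0 : f ≠ 0) :
    ∃ w, w ≠ 0 ∧ (orb ρ w).ncard ≤ (orb (dualRep ρ) f).ncard := by
  obtain ⟨y, hy⟩ := LinearMap.surjective f0 1
  rw [ncard_orb f]
  exact dual2_avg hG _ f y fun g hg => by
    have := LinearMap.congr_fun (mem_stab.1 (inv_mem hg)) y
    rwa [dualRep_apply, inv_inv, hy] at this

theorem Bad.dual_card (h : Bad ρ u v) {l m : Dual (ZMod p) V} (h' : Bad (dualRep ρ) l m) :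
    (orb (dualRep ρ) l).ncard = (orb ρ u).ncard ∨ (orb (dualRep ρ) m).ncard = (orb ρ u).ncard := by
  have h1 := h.add
  have h2 := h'.add
  rw [Subspace.dual_finrank_eq] at h2
  obtain ⟨f, f0, a1⟩ := dual2_a (ρ := ρ) h.cop h.u0
  obtain ⟨g, g0, a2⟩ := dual2_a (ρ := ρ) h.cop h.v0
  obtain ⟨x, x0, a3⟩ := dual2_b (ρ := ρ) h.cop h'.u0
  obtain ⟨y, y0, a4⟩ := dual2_b (ρ := ρ) h.cop h'.v0
  rcases h'.orb_eq f0 with e1 | e1 <;> rcases h'.orb_eq g0 with e2 | e2 <;> rcases h.orb_eq x0 with e3 | e3 <;>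
    rcases h.orb_eq y0 with e4 | e4 <;> rw [e1] at a1 <;> rw [e2] at a2 <;> rw [e3] at a3 <;> rw [e4] at a4 <;> omega

end Cfsg.Agent.K3C
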