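import Mathlib
import Cfsg.Agent.K3C.Defs

set_option autoImplicit false

namespace Cfsg.Agent.K3C

open Cfsg Subgroup GT.Frob Module Ch Ch.KT

variable {p : ℕ} [hp : Fact p.Prime] {V : Type*} [AddCommGroup V] [Module (ZMod p) V] [Finite V]
  {G : Type*} [Group G] [Finite G] {ρ : G →* (V ≃ₗ[ZMod p] V)} {u v : V}

open Polynomial in
/-- An endomorphism of prime order `r ≠ p` has a primitive `r`-th root of unity as an eigenvalue. -/
theorem eig_root {r : ℕ} (hr : r.Prime) (hrp : ¬ p ∣ r) {T : End (ZMod p) V} (h : T ^ r = 1) (h1 : T ≠ 1) :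
    ∃ ζ : AlgebraicClosure (ZMod p), IsPrimitiveRoot ζ r ∧
      ∀ i : ℕ, aeval (ζ ^ i) (LinearMap.charpoly (T ^ i)) = 0 := by
  haveI := Fact.mk hr
  have hc : ¬ IsCoprime (minpoly (ZMod p) T) (∑ i ∈ Finset.range r, X ^ i) := fun hc => by
    have h2 : minpoly (ZMod p) T ∣ (∑ i ∈ Finset.range r, X ^ i) * (X - 1) := by
      rw [geom_sum_mul]
      exact minpoly.dvd _ _ (by simp [h])
    have h3 := aeval_eq_zero_of_dvd_aeval_eq_zero (hc.dvd_of_dvd_mul_left h2) (minpoly.aeval (ZMod p) T)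
    exact h1 (by simpa [sub_eq_zero] using h3)
  rw [isCoprime_iff_aeval_ne_zero_of_isAlgClosed (ZMod p) (AlgebraicClosure (ZMod p))] at hc
  push Not at hc
  obtain ⟨ζ, z1, z2⟩ := hc
  have z3 : ∑ i ∈ Finset.range r, ζ ^ i = 0 := by simpa using z2
  have z4 : ζ ^ r = 1 := by rw [← sub_eq_zero, ← geom_sum_mul, z3, zero_mul]
  have z5 : ζ ≠ 1 := by
    rintro rfl
    exact hrp ((CharP.cast_eq_zero_iff (AlgebraicClosure (ZMod p)) p r).1 (by simpa using z3))
  refine ⟨ζ, orderOf_eq_prime z4 z5 ▸ IsPrimitiveRoot.orderOf ζ, fun i => ?_⟩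
  have h4 : minpoly (ZMod p) T ∣ (LinearMap.charpoly (T ^ i)).comp (X ^ i) := minpoly.dvd _ _ (by
    rw [aeval_comp, map_pow, aeval_X, LinearMap.aeval_self_charpoly])
  have h5 := aeval_eq_zero_of_dvd_aeval_eq_zero h4 z1
  rwa [aeval_comp, map_pow, aeval_X] at h5

theorem prime_le (hρ : Function.Injective ρ) (hG : ¬ p ∣ Nat.card G) {r : ℕ} (hr : r.Prime)
    (hd : r ∣ Nat.card G) : r ≤ finrank (ZMod p) V * Nat.card (ConjClasses G) := by
  classical
  haveI := Fact.mk hr
  haveI := Fintype.ofFinite (ConjClasses G)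
  obtain ⟨x, hx⟩ := exists_prime_orderOf_dvd_card' r hd
  let R : G →* End (ZMod p) V := LinearEquiv.automorphismGroup.toLinearMapMonoidHom.comp ρ
  have hR : ∀ g y, R g y = ρ g y := fun _ _ => rfl
  obtain ⟨ζ, hζ, h⟩ := eig_root (T := R x) hr (fun e => hG (e.trans hd))
    (by rw [← map_pow, ← hx, pow_orderOf_eq_one, map_one]) (fun e => by
      have : x = 1 := hρ (LinearEquiv.ext fun y => by rw [← hR, e, map_one]; rfl)
      rw [this, orderOf_one] at hx
      exact hr.one_lt.ne hx)
  have hc : ∀ a b : G, IsConj a b → LinearMap.charpoly (R a) = LinearMap.charpoly (R b) := fun a b hab => by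
    obtain ⟨g, rfl⟩ := isConj_iff.1 hab
    rw [← LinearEquiv.charpoly_conj (ρ g) (R a)]
    congr 1
    ext y
    simp [hR, LinearEquiv.conj_apply]
  have key := Finset.card_le_mul_card_image (f := fun i : ℕ => ConjClasses.mk (x ^ i)) (Finset.range r)
    (finrank (ZMod p) V) fun C _ => by
      obtain ⟨y, rfl⟩ := ConjClasses.exists_rep C
      refine (Finset.card_le_card_of_injOn (t := ((LinearMap.charpoly (R y)).aroots
        (AlgebraicClosure (ZMod p))).toFinset) (fun i => ζ ^ i) (fun i hi => ?_) fun i hi j hj e => ?_).trans ?_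
      · have h1 := (Finset.mem_filter.1 hi).2
        rw [Finset.mem_coe, Multiset.mem_toFinset, Polynomial.mem_aroots,
          ← hc _ _ (ConjClasses.mk_eq_mk_iff_isConj.1 h1), map_pow]
        exact ⟨(LinearMap.charpoly_monic _).ne_zero, h i⟩
      · exact hζ.pow_inj (Finset.mem_range.1 (Finset.mem_filter.1 hi).1)
          (Finset.mem_range.1 (Finset.mem_filter.1 hj).1) e
      · exact (Multiset.toFinset_card_le _).trans ((Polynomial.card_roots' _).trans
          (Polynomial.natDegree_map_le.trans (LinearMap.charpoly_natDegree _).le))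
  rw [Finset.card_range] at key
  exact key.trans (Nat.mul_le_mul_left _ ((Finset.card_le_univ _).trans Nat.card_eq_fintype_card.ge))

end Cfsg.Agent.K3C
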