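import Mathlib
import Cfsg.Agent.K3C.Defs

/-!
# Group-theoretic lemmas: quotients, two classes of `p`-elements, affine embedding
-/

set_option autoImplicit false

namespace Cfsg.Agent.K3C

open Cfsg Subgroup GT.Frob Module Ch Ch.KT

variable {p : ℕ} [hp : Fact p.Prime] {V : Type*} [AddCommGroup V] [Module (ZMod p) V] [Finite V]
  {G : Type*} [Group G] [Finite G] {ρ : G →* (V ≃ₗ[ZMod p] V)} {u v : V}

theorem grp1_lift {H : Type*} [Group H] (f : G →* H) (g : G) (hH : ¬ p ∣ orderOf (f g)) :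
    ∃ x, f x = f g ∧ ¬ p ∣ orderOf x := by
  obtain ⟨m, h1, h2⟩ := Nat.chineseRemainder
    (((Nat.Prime.coprime_iff_not_dvd hp.out).2 hH).pow_left ((orderOf g).factorization p)) 0 1
  refine ⟨g ^ m, ?_, fun e => Nat.not_dvd_ordCompl hp.out (orderOf_pos g).ne' (e.trans ?_)⟩
  · rw [map_pow, pow_eq_pow_of_modEq h2 (pow_orderOf_eq_one _), pow_one]
  · obtain ⟨c, rfl⟩ := (Nat.modEq_zero_iff_dvd).1 h1
    rw [orderOf_dvd_iff_pow_eq_one, ← pow_mul, mul_right_comm, Nat.ordProj_mul_ordCompl_eq_self,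
      pow_mul, pow_orderOf_eq_one, one_pow]

theorem kp_le_of_surjective {H : Type*} [Group H] {f : G →* H} (hf : Function.Surjective f) :
    kp p H ≤ kp p G := by
  refine Nat.card_le_card_of_surjective (fun c => ⟨c.1.map f, by
    obtain ⟨_, g, rfl, hg⟩ := c
    exact ⟨f g, rfl, fun e => hg (e.trans (orderOf_map_dvd f g))⟩⟩) ?_
  rintro ⟨_, h, rfl, hh⟩
  obtain ⟨g, rfl⟩ := hf h
  obtain ⟨x, hx, hx'⟩ := grp1_lift f g hh
  refine ⟨⟨.mk x, x, rfl, hx'⟩, Subtype.ext ?_⟩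
  change ConjClasses.mk (f x) = ConjClasses.mk (f g)
  rw [hx]

theorem TwoCl.of_surjective (h : TwoCl p G) {H : Type*} [Group H] {f : G →* H}
    (hf : Function.Surjective f) : TwoCl p H := by
  obtain ⟨a, b, h⟩ := h
  refine ⟨f a, f b, fun x hx hx' => ?_⟩
  obtain ⟨y, rfl, hy⟩ := FG.H96.exists_pElement_lift hf hx'
  exact (h y (fun e => hx (by rw [e, map_one])) hy).imp f.map_isConj f.map_isConj

theorem twoCl_of_card (h3 : Nat.card {c : ConjClasses G // ∃ g : G, ConjClasses.mk g = c ∧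
    ∃ k : ℕ, orderOf g = p ^ k} = 3) : TwoCl p G ∧ p ∣ Nat.card G := by
  classical
  let T := {c : ConjClasses G // ∃ g : G, ConjClasses.mk g = c ∧ ∃ k : ℕ, orderOf g = p ^ k}
  let o : T := ⟨.mk 1, 1, rfl, 0, by simp⟩
  have h2 : ({o}ᶜ : Set T).ncard = 2 := by
    have := Set.ncard_add_ncard_compl ({o} : Set T)
    rw [Set.ncard_singleton, h3] at this
    omega
  obtain ⟨⟨_, a, rfl, ha⟩, ⟨_, b, rfl, hb⟩, -, hab⟩ := Set.ncard_eq_two.1 h2
  refine ⟨⟨a, b, fun x hx hx' => ?_⟩, ?_⟩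
  · have h4 : (⟨.mk x, x, rfl, hx'⟩ : T) ∈ ({o}ᶜ : Set T) := fun e =>
      hx (isConj_one_left.1 (ConjClasses.mk_eq_mk_iff_isConj.1 (congrArg Subtype.val e)))
    rw [hab] at h4
    exact h4.imp (fun e => (ConjClasses.mk_eq_mk_iff_isConj.1 (congrArg Subtype.val e)).symm)
      fun e => (ConjClasses.mk_eq_mk_iff_isConj.1 (congrArg Subtype.val e)).symm
  · have h4 : (⟨.mk a, a, rfl, ha⟩ : T) ∈ ({o}ᶜ : Set T) := hab ▸ Or.inl rfl
    obtain ⟨k, hk⟩ := ha
    rcases k with _ | k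
    · rw [pow_zero, orderOf_eq_one_iff] at hk
      subst hk
      exact absurd rfl h4
    · exact (dvd_pow_self p k.succ_ne_zero).trans (hk ▸ orderOf_dvd_natCard a)

theorem exists_affine_embed {A H : Subgroup G} [A.Normal] (hA : IsElementaryAbelian p A)
    (hc : centralizer (A : Set G) ≤ A) (h : IsComplement' A H) (h1 : Nat.card A = p) :
    ∃ f : G →* affineGroup (ZMod p), Function.Injective f := by
  have : FaithfulSMul G (G ⧸ H) := ⟨fun {a b} hab => by
    have h2 : H.normalCore = ⊥ := by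
      refine (h.disjoint.mono_right H.normalCore_le).symm.eq_bot_of_le (le_trans ?_ hc)
      exact le_centralizer_iff.1 (commutator_eq_bot_iff_le_centralizer.1 (eq_bot_iff.2
        ((commutator_le_inf _ _).trans (h.disjoint.mono_right H.normalCore_le).le_bot)))
    rw [normalCore_eq_ker] at h2
    exact (MonoidHom.ker_eq_bot_iff _).1 h2 (Equiv.ext hab)⟩
  have := FG.DG.isPretransitive_of (X := G ⧸ H) A fun x y => by
    obtain ⟨x, rfl⟩ := QuotientGroup.mk_surjective x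
    obtain ⟨y, rfl⟩ := QuotientGroup.mk_surjective y
    obtain ⟨⟨a, e⟩, rfl⟩ := h.2 x
    obtain ⟨⟨b, f⟩, rfl⟩ := h.2 y
    refine ⟨_, (b * a⁻¹).2, QuotientGroup.eq.2 ?_⟩
    simpa [mul_assoc] using H.mul_mem (H.inv_mem e.2) f.2
  obtain ⟨W, _, _, e, ρ, he, hρ, -, -⟩ := Perm.exists_affine_coord hA ((1 : G) : G ⧸ H)
  have : Finite W := Finite.of_equiv _ e
  have h3 : finrank (ZMod p) W = 1 := by
    have h3 := card_eq_pow (p := p) (V := W)
    rw [← Nat.card_congr e, ← index_eq_card, h.index_eq_card, h1] at h3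
    exact Nat.pow_right_injective hp.out.two_le (h3.symm.trans (pow_one p).symm)
  let f : W ≃ₗ[ZMod p] ZMod p := LinearEquiv.ofFinrankEq W (ZMod p) (by rw [h3, finrank_self])
  let ψ : G →* Equiv.Perm (ZMod p) :=
    (Equiv.permCongrHom (e.trans f.toEquiv)).toMonoidHom.comp (MulAction.toPermHom G _)
  have h4 : Function.Injective ψ := (Equiv.permCongrHom _).injective.comp MulAction.toPerm_injective
  have h5 : ∀ g, ψ g ∈ affineGroup (ZMod p) := by
    intro g
    refine ⟨Units.mk0 (f (ρ g (f.symm 1))) (by simp), f (e (g • ((1 : G) : G ⧸ H))), fun x => ?_⟩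
    change f (e (g • e.symm (f.symm x))) = _
    rw [hρ, e.apply_symm_apply, map_add, Units.val_mk0, mul_comm, ← smul_eq_mul, ← map_smul,
      ← map_smul, ← map_smul, smul_eq_mul, mul_one]
  exact ⟨ψ.codRestrict _ h5, fun a b e => h4 (congrArg Subtype.val e)⟩

end Cfsg.Agent.K3C
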