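import Mathlib
import Cfsg.Agent.K3C.Defs
import Cfsg.Agent.Ch.KPLow

/-! A two-dimensional linear group of order prime to the characteristic has an abelian subgroup of index
at most sixty. -/

set_option autoImplicit false

namespace Cfsg.Agent.K3C

open Cfsg Subgroup GT.Frob Module Ch Ch.KT

variable {p : ℕ} [hp : Fact p.Prime] {V : Type*} [AddCommGroup V] [Module (ZMod p) V] [Finite V]
  {G : Type*} [Group G] [Finite G] {ρ : G →* (V ≃ₗ[ZMod p] V)} {u v : V}

theorem hom1_comm {K W C : Type*} [Field K] [AddCommGroup W] [Module K W] [Group C]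
    [Finite C] [DistribMulAction C W] [FaithfulSMul C W] (q : ℕ) [hq' : Fact q.Prime] [CharP K q]
    (hq : ¬ q ∣ Nat.card C) (hlin : ∀ (g : C) (c : K) (x : W), g • c • x = c • g • x)
    (h2 : finrank K W = 2) {L : Submodule K W} (h0 : L ≠ ⊥) (h1 : L ≠ ⊤)
    (hL : ∀ (g : C), ∀ v ∈ L, g • v ∈ L) (g h : C) : g * h = h * g := by
  have : Module.Finite K W := Module.finite_of_finrank_eq_succ h2
  have d1 : finrank K L = 1 := by
    have := Submodule.finrank_lt h1
    have := mt Submodule.finrank_eq_zero.1 h0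
    omega
  have d2 : finrank K (W ⧸ L) = 1 := by
    have := L.finrank_quotient_add_finrank
    omega
  have P1 : ∀ g : C, ∃ a : K, ∀ v ∈ L, g • v = a • v := fun g => by
    obtain ⟨e, -, he⟩ := finrank_eq_one_iff'.1 d1
    obtain ⟨a, ha⟩ := he ⟨g • (e : W), hL g _ e.2⟩
    refine ⟨a, fun v hv => ?_⟩
    obtain ⟨c, hc⟩ := he ⟨v, hv⟩
    have ha' : a • (e : W) = g • (e : W) := congrArg Subtype.val ha
    have hc' : c • (e : W) = v := congrArg Subtype.val hc
    rw [← hc', hlin, ← ha', smul_comm]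
  have P2 : ∀ g : C, ∃ b : K, ∀ x, g • x - b • x ∈ L := fun g => by
    obtain ⟨f, -, hf⟩ := finrank_eq_one_iff'.1 d2
    obtain ⟨f, rfl⟩ := L.mkQ_surjective f
    have key : ∀ x, ∃ c : K, x - c • f ∈ L := fun x => by
      obtain ⟨c, hc⟩ := hf (L.mkQ x)
      exact ⟨c, (Submodule.Quotient.eq L).1 (by rw [← map_smul] at hc; exact hc.symm)⟩
    obtain ⟨b, hb⟩ := key (g • f)
    refine ⟨b, fun x => ?_⟩
    obtain ⟨c, hc⟩ := key x
    have e : g • x - b • x = g • (x - c • f) + c • (g • f - b • f) - b • (x - c • f) := by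
      rw [smul_sub, smul_sub, smul_sub, hlin, smul_comm c b f]
      abel
    rw [e]
    exact sub_mem (add_mem (hL g _ hc) (L.smul_mem c hb)) (L.smul_mem b hc)
  obtain ⟨a, ha⟩ := P1 g
  obtain ⟨a', ha'⟩ := P1 h
  obtain ⟨b, hb⟩ := P2 g
  obtain ⟨b', hb'⟩ := P2 h
  obtain ⟨c, hc⟩ : ∃ c, c = (h * g)⁻¹ * (g * h) := ⟨_, rfl⟩
  have c1 : ∀ v ∈ L, c • v = v := fun v hv => by
    rw [hc, mul_smul, inv_smul_eq_iff, mul_smul, mul_smul, ha' v hv, ha v hv, hlin, hlin, ha' v hv, ha v hv,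
      smul_comm]
  have c2 : ∀ x : W, c • x - x ∈ L := fun x => by
    have e : c • x - x = (h * g)⁻¹ • (g • (h • x - b' • x) + b' • (g • x - b • x) -
        (h • (g • x - b • x) + b • (h • x - b' • x))) := by
      rw [eq_inv_smul_iff, smul_sub, hc, ← mul_smul, mul_inv_cancel_left, mul_smul, mul_smul, smul_sub,
        smul_sub, smul_sub, smul_sub, hlin, hlin, smul_comm b' b x]
      abel
    rw [e]
    exact hL _ _ (sub_mem (add_mem (hL g _ (hb' x)) (L.smul_mem _ (hb x)))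
      (add_mem (hL h _ (hb x)) (L.smul_mem _ (hb' x))))
  have c3 : ∀ (n : ℕ) (x : W), c ^ n • x = x + (n : K) • (c • x - x) := fun n x => by
    induction n with
    | zero => simp
    | succ n ih =>
      rw [pow_succ', mul_smul, ih, smul_add, c1 _ (L.smul_mem _ (c2 x)), Nat.cast_succ, add_smul, one_smul]
      abel
  have c4 : c ^ q = 1 := eq_of_smul_eq_smul (α := W) fun x => by
    rw [c3, CharP.cast_eq_zero, zero_smul, add_zero, one_smul]
  rcases (Nat.dvd_prime hq'.out).1 (orderOf_dvd_of_pow_eq_one c4) with e | e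
  · rw [orderOf_eq_one_iff, hc, inv_mul_eq_one] at e
    exact e.symm
  · exact (hq (e ▸ orderOf_dvd_natCard c)).elim

theorem exists_comm_two {K W C : Type*} [Field K] [Finite K] [AddCommGroup W] [Module K W] [Group C]
    [Finite C] [DistribMulAction C W] [FaithfulSMul C W] (q : ℕ) [Fact q.Prime] [CharP K q]
    (hq : ¬ q ∣ Nat.card C) (hlin : ∀ (g : C) (c : K) (x : W), g • c • x = c • g • x)
    (h2 : finrank K W = 2) : ∃ B : Subgroup C, IsMulCommutative B ∧ B.index ≤ 60 := by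
  rcases two_dim_quot q hq hlin h2 with ⟨L, h0, h1, hL⟩ | ⟨B, hB, hi⟩ | ⟨π, hz, -, hπ⟩
  · exact ⟨⊤, ⟨⟨fun a b => Subtype.ext (hom1_comm q hq hlin h2 h0 h1 hL a b)⟩⟩, by simp⟩
  · exact ⟨B, hB, hi.trans (by norm_num)⟩
  · refine ⟨π.ker, ⟨⟨fun a b => Subtype.ext (mem_center_iff.1 (hz b.2) a)⟩⟩, ?_⟩
    rw [index_ker]
    rcases hπ with ⟨⟨e⟩⟩ | ⟨⟨e⟩⟩ | ⟨⟨e⟩⟩ <;> rw [Nat.card_congr e.toEquiv]
    · rw [card_alt_four]; norm_num
    · rw [card_perm_four]; norm_num
    · rw [card_alt_five]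

end Cfsg.Agent.K3C
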