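import Mathlib
import Cfsg.Agent.K3C.Defs
import Cfsg.Agent.K3C.Fld
import Cfsg.Agent.K3C.AbIdx
import Cfsg.Agent.K3C.Hom1

set_option autoImplicit false

namespace Cfsg.Agent.K3C

open Cfsg Subgroup GT.Frob Module Ch Ch.KT

variable {p : ℕ} [hp : Fact p.Prime] {V : Type*} [AddCommGroup V] [Module (ZMod p) V] [Finite V]
  {G : Type*} [Group G] [Finite G] {ρ : G →* (V ≃ₗ[ZMod p] V)} {u v : V}

theorem Bad.hom (h : Bad ρ u v) {m r : ℕ} [Fact r.Prime] (hr : Ppd p m r) (hm : 0 < m)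
    (hn : finrank (ZMod p) V = 2 * m) {N : Subgroup G} [N.Normal] [IsMulCommutative N]
    (hN : IsPGroup r N) (h0 : N ≠ ⊥) (hF : FieldOn ρ N) :
    ∃ B : Subgroup G, IsMulCommutative B ∧ B.index ≤ 60 * m := by
  have := h.nontrivial
  have hrN : r ∣ Nat.card N := by
    obtain ⟨k, hk⟩ := IsPGroup.iff_card.1 hN
    rcases k with _ | k
    · exact absurd (card_eq_one.1 (by simpa using hk)) h0
    · exact hk ▸ dvd_pow_self r (Nat.succ_ne_zero k)
  rcases irr_or_field h.inj hF hr hm hrN hn.le with hI | ⟨K, _, _, _, _, h2, hi, hlin⟩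
  · exact absurd ⟨N, inferInstance, inferInstance, hI⟩ h.not_ab
  let _ := DistribMulAction.compHom V ρ
  have : FaithfulSMul G V := ⟨fun e => h.inj (LinearEquiv.ext e)⟩
  obtain ⟨B, b1, b2⟩ := exists_comm_two (K := K) (W := V) (C := centralizer (N : Set G)) p
    (fun e => h.cop (e.trans (card_subgroup_dvd_card _))) (fun g c x => hlin g g.2 c x) h2
  refine ⟨B.map (centralizer (N : Set G)).subtype, inferInstance, ?_⟩
  rw [index_map_subtype]
  exact Nat.mul_le_mul b2 (Nat.le_of_dvd hm hi)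

end Cfsg.Agent.K3C
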