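import Mathlib
import Cfsg.Agent.K3C.Defs
import Cfsg.Agent.K3C.Bas
import Cfsg.Agent.Cl.FormRep

set_option autoImplicit false

namespace Cfsg.Agent.K3C

open Cfsg Subgroup GT.Frob Module Ch Ch.KT

variable {p : ℕ} [hp : Fact p.Prime] {V : Type*} [AddCommGroup V] [Module (ZMod p) V] [Finite V]
  {G : Type*} [Group G] [Finite G] {ρ : G →* (V ≃ₗ[ZMod p] V)} {u v : V}

theorem Bad.inh1_fix (h : Bad ρ u v) {N : Subgroup G} [hn : N.Normal] (h0 : N ≠ ⊥) {x : V}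
    (hx : ∀ a ∈ N, ρ a x = x) : x = 0 := by
  let W : Submodule (ZMod p) V :=
    { carrier := {x | ∀ a ∈ N, ρ a x = x}
      zero_mem' := fun a _ => map_zero _
      add_mem' := fun hx hy a ha => by rw [map_add, hx a ha, hy a ha]
      smul_mem' := fun c x hx a ha => by rw [map_smul, hx a ha] }
  rcases h.irr W (fun g _ y hy a ha => by
      have := hy _ (hn.conj_mem a ha g⁻¹)
      rw [inv_inv, map_mul, map_mul, LinearEquiv.mul_apply, LinearEquiv.mul_apply] at this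
      have k := congrArg (ρ g) this
      rwa [← LinearEquiv.mul_apply, ← map_mul, mul_inv_cancel, map_one, LinearEquiv.coe_one, id] at k) with e | e
  · exact (Submodule.eq_bot_iff _).1 e x hx
  · refine absurd (eq_bot_iff.2 fun a ha => mem_bot.2 (h.inj ?_)) h0
    rw [map_one]
    exact LinearEquiv.ext fun y => (e ▸ Submodule.mem_top : y ∈ W) a ha

theorem Bad.dvd_finrank (h : Bad ρ u v) {m r : ℕ} [Fact r.Prime] (hr : Ppd p m r) (hm : 0 < m)
    {N : Subgroup G} [N.Normal] (hN : IsPGroup r N) (h0 : N ≠ ⊥) {U : Submodule (ZMod p) V}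
    (hU : ∀ a ∈ N, ∀ x ∈ U, ρ a x ∈ U) : m ∣ finrank (ZMod p) U := by
  let _ : MulAction N U :=
    { smul := fun a x => ⟨ρ a x, hU a a.2 x x.2⟩
      one_smul := fun x => Subtype.ext (by change ρ 1 x = x; simp)
      mul_smul := fun a b x => Subtype.ext (by change ρ (a * b) x = ρ a (ρ b x); simp) }
  have k := hN.card_modEq_card_fixedPoints U
  have e : MulAction.fixedPoints N U = {0} := by
    ext x
    constructor
    · exact fun hx => Subtype.ext (h.inh1_fix h0 fun a ha => congrArg Subtype.val (hx ⟨a, ha⟩))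
    · rintro rfl a
      exact Subtype.ext (map_zero (ρ a))
  rw [e, Nat.card_unique (α := ({0} : Set U)), Module.natCard_eq_pow_finrank (K := ZMod p), Nat.card_zmod] at k
  have p1 := hp.out.one_le
  rw [← (NT.primitive_iff_orderOf_eq p1 hm).1 ⟨hr.2.1, hr.2.2⟩, ← NT.dvd_pow_sub_one_iff_orderOf_dvd p1]
  exact (Nat.modEq_iff_dvd' (Nat.one_le_pow _ _ p1)).1 k.symm

theorem Bad.split (h : Bad ρ u v) {m r : ℕ} [Fact r.Prime] (hr : Ppd p m r) (hm : 0 < m)
    (hn : finrank (ZMod p) V = 2 * m) {N : Subgroup G} [N.Normal] [IsMulCommutative N]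
    (hN : IsPGroup r N) (h0 : N ≠ ⊥) (hF : ¬ FieldOn ρ N) :
    ∃ W₁ W₂ : Submodule (ZMod p) V, IsCompl W₁ W₂ ∧ finrank (ZMod p) W₁ = m ∧
      finrank (ZMod p) W₂ = m ∧ (∀ a ∈ N, ∀ x ∈ W₁, ρ a x ∈ W₁) ∧ (∀ a ∈ N, ∀ x ∈ W₂, ρ a x ∈ W₂) ∧
      ∀ U : Submodule (ZMod p) V, U ≠ ⊥ → U ≠ ⊤ → (∀ a ∈ N, ∀ x ∈ U, ρ a x ∈ U) →
        U = W₁ ∨ U = W₂ := by
  obtain ⟨t, ht, x0, hx0, k0⟩ : ∃ t ∈ linAlg ρ N, ∃ x, t x = 0 ∧ ¬ (t = 0 ∨ x = 0) := by
    by_contra k
    exact hF fun t ht x hx => by_contra fun e => k ⟨t, ht, x, hx, e⟩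
  obtain ⟨t0, x1⟩ := not_or.1 k0
  have dim : ∀ U : Submodule (ZMod p) V, U ≠ ⊥ → U ≠ ⊤ → (∀ a ∈ N, ∀ x ∈ U, ρ a x ∈ U) →
      finrank (ZMod p) U = m := fun U a b hU => by
    obtain ⟨c, hc⟩ := h.dvd_finrank hr hm hN h0 hU
    have h1 := Submodule.finrank_lt b
    have h2 : finrank (ZMod p) U ≠ 0 := fun e => a (Submodule.finrank_eq_zero.1 e)
    rw [hn, hc, mul_comm 2] at h1
    have h3 := Nat.lt_of_mul_lt_mul_left h1
    interval_cases c
    · exact absurd hc h2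
    · rw [hc, mul_one]
  have cm : ∀ a ∈ N, ∀ x, t (ρ a x) = ρ a (t x) := fun a ha x =>
    (LinearMap.congr_fun (commute_of_mem_linAlg (y := linRep ρ a) (fun b hb =>
      (Commute.map (setLike_mul_comm ha hb : Commute a b) (linRep ρ))) ht).eq x).symm
  have i1 : ∀ a ∈ N, ∀ x ∈ LinearMap.ker t, ρ a x ∈ LinearMap.ker t := fun a ha x hx => by
    rw [LinearMap.mem_ker, cm a ha, hx, map_zero]
  have i2 : ∀ a ∈ N, ∀ x ∈ LinearMap.range t, ρ a x ∈ LinearMap.range t := by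
    rintro a ha _ ⟨x, rfl⟩
    exact ⟨_, cm a ha x⟩
  have n1 : LinearMap.ker t ≠ ⊥ := fun e => x1 ((Submodule.eq_bot_iff _).1 e x0 hx0)
  have n2 : LinearMap.ker t ≠ ⊤ := fun e => t0 (LinearMap.ker_eq_top.1 e)
  have d1 := dim _ n1 n2 i1
  have d2 : finrank (ZMod p) (LinearMap.range t) = m := by
    have := t.finrank_range_add_finrank_ker
    omega
  -- two proper invariant subspaces that meet are equal
  have meet : ∀ U W : Submodule (ZMod p) V, (∀ a ∈ N, ∀ x ∈ U, ρ a x ∈ U) → (∀ a ∈ N, ∀ x ∈ W, ρ a x ∈ W) →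
      finrank (ZMod p) U = m → finrank (ZMod p) W = m → U ⊓ W ≠ ⊥ → U = W := fun U W hU hW a b c => by
    have e := dim _ c (fun e => by
        rw [top_le_iff.1 (e ▸ inf_le_left : ⊤ ≤ U), finrank_top] at a
        omega) fun a ha x hx => ⟨hU a ha x hx.1, hW a ha x hx.2⟩
    exact (Submodule.eq_of_le_of_finrank_eq inf_le_left (e.trans a.symm)).symm.trans
      (Submodule.eq_of_le_of_finrank_eq inf_le_right (e.trans b.symm))
  have uni : ∀ U : Submodule (ZMod p) V, U ≠ ⊥ → U ≠ ⊤ → (∀ a ∈ N, ∀ x ∈ U, ρ a x ∈ U) →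
      U = LinearMap.ker t ∨ U = LinearMap.range t := fun U a b hU => by
    by_cases e : U ⊓ LinearMap.ker t = ⊥
    · refine .inr (meet _ _ hU i2 (dim U a b hU) d2 fun k => a (eq_bot_iff.2 fun x hx => ?_))
      have h1 : t x ∈ U ⊓ LinearMap.range t := ⟨apply_mem_of_mem_linAlg hU ht x hx, x, rfl⟩
      rw [k, Submodule.mem_bot] at h1
      exact (Submodule.eq_bot_iff _).1 e x ⟨hx, h1⟩
    · exact .inl (meet _ _ hU i1 (dim U a b hU) d1 e)
  refine ⟨_, _, ?_, d1, d2, i1, i2, uni⟩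
  obtain ⟨W, hW, hc⟩ := Cl.RepInv.exists_isCompl (ρ := ((linRep ρ).comp N.subtype : Representation (ZMod p) N V))
    (fun e => h.cop (((ZMod.natCast_eq_zero_iff _ _).1 e).trans N.card_subgroup_dvd_card))
    (U := LinearMap.ker t) fun a x hx => i1 a a.2 x hx
  rcases uni W (fun e => n2 (by rw [e] at hc; exact eq_top_of_isCompl_bot hc))
    (fun e => n1 (by rw [e] at hc; exact eq_bot_of_isCompl_top hc)) fun a ha x hx => hW ⟨a, ha⟩ x hx with e | e
  · rw [e] at hc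
    exact absurd (disjoint_self.1 hc.disjoint) n1
  · exact e ▸ hc

end Cfsg.Agent.K3C
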