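import Mathlib
import Cfsg.Agent.K3C.Defs
import Cfsg.Agent.K3C.AbIdx

set_option autoImplicit false

namespace Cfsg.Agent.K3C

open Cfsg Subgroup GT.Frob Module Ch Ch.KT

variable {p : ℕ} [hp : Fact p.Prime] {V : Type*} [AddCommGroup V] [Module (ZMod p) V] [Finite V]
  {G : Type*} [Group G] [Finite G] {ρ : G →* (V ≃ₗ[ZMod p] V)} {u v : V}

/-- Restriction of a representation to an invariant subspace. -/
def inh2_res (τ : G →* (V ≃ₗ[ZMod p] V)) (W : Submodule (ZMod p) V) (h : ∀ g, ∀ x ∈ W, τ g x ∈ W) :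
    G →* (W ≃ₗ[ZMod p] W) :=
  MonoidHom.mk' (fun g => LinearEquiv.ofLinear ((τ g).toLinearMap.restrict (h g)) ((τ g⁻¹).toLinearMap.restrict (h g⁻¹))
    (by ext x; simp) (by ext x; simp)) fun g g' => by ext x; simp

omit [Finite V] [Finite G] in
theorem inh2_res_apply (τ : G →* (V ≃ₗ[ZMod p] V)) (W : Submodule (ZMod p) V) (h : ∀ g, ∀ x ∈ W, τ g x ∈ W)
    (g : G) (x : W) : (inh2_res τ W h g x : V) = τ g x := rfl

theorem inh2_one (τ : G →* (V ≃ₗ[ZMod p] V)) (A : Subgroup G) [A.Normal] [IsMulCommutative A]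
    {W : Submodule (ZMod p) V} (h0 : W ≠ ⊥) (h : ∀ g, ∀ x ∈ W, τ g x ∈ W)
    (hU : ∀ U ≤ W, (∀ a ∈ A, ∀ x ∈ U, τ a x ∈ U) → U = ⊥ ∨ U = W) :
    ∃ C : Subgroup G, C.index ≤ finrank (ZMod p) W ∧ ∀ a ∈ C, ∀ b ∈ C, ∀ x ∈ W, τ a (τ b x) = τ b (τ a x) := by
  have : Nontrivial W := Submodule.nontrivial_iff_ne_bot.2 h0
  obtain ⟨C, h1, h2⟩ := exists_comm_index (inh2_res τ W h) A fun U k => by
    rcases hU (U.map W.subtype) (Submodule.map_subtype_le _ _) (by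
      rintro a ha _ ⟨x, hx, rfl⟩
      exact ⟨_, k a ha x hx, rfl⟩) with e | e
    · exact .inl (Submodule.map_injective_of_injective W.subtype_injective (e.trans (Submodule.map_bot _).symm))
    · exact .inr (Submodule.map_injective_of_injective W.subtype_injective (e.trans (Submodule.map_subtype_top _).symm))
  exact ⟨C, h1, fun a ha b hb x hx => congrArg (fun f : W ≃ₗ[ZMod p] W => (f ⟨x, hx⟩ : V)) (h2 a ha b hb)⟩

/-- The stabiliser of a subspace. -/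
def inh2_st (ρ : G →* (V ≃ₗ[ZMod p] V)) (W : Submodule (ZMod p) V) : Subgroup G where
  carrier := {g | ∀ x, ρ g x ∈ W ↔ x ∈ W}
  one_mem' := fun x => by simp
  mul_mem' := fun {a b} ha hb x => by rw [map_mul, LinearEquiv.mul_apply, ha, hb]
  inv_mem' := fun {a} ha x => by rw [← ha]; simp

omit [Finite G] in
theorem inh2_idx {H : Subgroup G} (h : ∀ a b, a ∉ H → b ∉ H → b * a⁻¹ ∈ H) : H.index ≤ 2 := by
  by_cases k : ∀ a, a ∈ H
  · rw [(eq_top_iff' H).2 k, index_top]; norm_num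
  push Not at k
  obtain ⟨a, ha⟩ := k
  refine (index_eq_two_iff.2 ⟨a⁻¹, fun b => ?_⟩).le
  by_cases hb : b ∈ H
  · exact .inr ⟨hb, fun k => ha (inv_mem_iff.1 ((mul_mem_cancel_left hb).1 k))⟩
  · exact .inl ⟨h a b ha hb, hb⟩

theorem exists_comm_of_split (hρ : Function.Injective ρ) {m : ℕ} (hm : 0 < m) {N : Subgroup G}
    [N.Normal] [IsMulCommutative N] {W₁ W₂ : Submodule (ZMod p) V} (hc : IsCompl W₁ W₂)
    (h1 : finrank (ZMod p) W₁ = m) (h2 : finrank (ZMod p) W₂ = m)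
    (i1 : ∀ a ∈ N, ∀ x ∈ W₁, ρ a x ∈ W₁) (i2 : ∀ a ∈ N, ∀ x ∈ W₂, ρ a x ∈ W₂)
    (hU : ∀ U : Submodule (ZMod p) V, U ≠ ⊥ → U ≠ ⊤ → (∀ a ∈ N, ∀ x ∈ U, ρ a x ∈ U) →
      U = W₁ ∨ U = W₂) : ∃ B : Subgroup G, IsMulCommutative B ∧ B.index ≤ 2 * m ^ 2 := by
  have b1 : W₁ ≠ ⊥ := by rintro rfl; rw [finrank_bot] at h1; omega
  have b2 : W₂ ≠ ⊥ := by rintro rfl; rw [finrank_bot] at h2; omega
  have t1 : W₁ ≠ ⊤ := fun e => b2 (eq_bot_of_top_isCompl (e ▸ hc))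
  have t2 : W₂ ≠ ⊤ := fun e => b1 (eq_bot_of_isCompl_top (e ▸ hc))
  have ne : W₁ ≠ W₂ := fun e => b1 (disjoint_self.1 (by have := hc.disjoint; rwa [← e] at this))
  have key : ∀ (g : G) (W : Submodule (ZMod p) V), W ≠ ⊥ → W ≠ ⊤ → (∀ a ∈ N, ∀ x ∈ W, ρ a x ∈ W) →
      (∀ x, ρ g x ∈ W ↔ x ∈ W₁) ∨ ∀ x, ρ g x ∈ W ↔ x ∈ W₂ := fun g W hb ht hi => by
    refine (hU (W.comap (ρ g).toLinearMap) (fun e => hb ?_) (fun e => ht ?_) fun a ha x hx => ?_).imp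
      (fun e x => by rw [← e]; rfl) fun e x => by rw [← e]; rfl
    · refine (Submodule.eq_bot_iff _).2 fun x hx => ?_
      obtain ⟨y, rfl⟩ := (ρ g).surjective x
      rw [(Submodule.eq_bot_iff _).1 e y hx, map_zero]
    · refine Submodule.eq_top_iff'.2 fun x => ?_
      obtain ⟨y, rfl⟩ := (ρ g).surjective x
      exact Submodule.eq_top_iff'.1 e y
    · have := hi _ (‹N.Normal›.conj_mem a ha g) _ hx
      simpa using this
  have s2 : ∀ g ∈ inh2_st ρ W₁, ∀ x ∈ W₂, ρ g x ∈ W₂ := fun g hg x hx => by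
    refine ((key g W₂ b2 t2 i2).resolve_left fun k => ne (Submodule.ext fun y => ?_)) x |>.2 hx
    obtain ⟨z, rfl⟩ := (ρ g).surjective y
    rw [k, hg]
  have hi : (inh2_st ρ W₁).index ≤ 2 := inh2_idx fun a b ha hb x => by
    rw [map_mul, LinearEquiv.mul_apply, (key b W₁ b1 t1 i1).resolve_left hb, ← (key a W₁ b1 t1 i1).resolve_left ha]
    simp
  have : IsMulCommutative (N.subgroupOf (inh2_st ρ W₁)) := Subgroup.subgroupOf_isMulCommutative _ _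
  obtain ⟨C1, k1, c1⟩ := inh2_one (ρ.comp (inh2_st ρ W₁).subtype) (N.subgroupOf _) b1 (fun g x hx => (g.2 x).2 hx)
    fun U hle hv => by
      by_contra! k
      rcases hU U k.1 (fun e => t1 (top_le_iff.1 (e ▸ hle)))
        (fun a ha x hx => hv ⟨a, fun y => ⟨fun hy => by simpa using i1 _ (inv_mem ha) _ hy, i1 a ha y⟩⟩ ha x hx) with e | e
      · exact k.2 e
      · exact b2 (hc.disjoint.symm.eq_bot_of_le (e ▸ hle))
  obtain ⟨C2, k2, c2⟩ := inh2_one (ρ.comp (inh2_st ρ W₁).subtype) (N.subgroupOf _) b2 (fun g x hx => s2 g g.2 x hx)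
    fun U hle hv => by
      by_contra! k
      rcases hU U k.1 (fun e => t2 (top_le_iff.1 (e ▸ hle)))
        (fun a ha x hx => hv ⟨a, fun y => ⟨fun hy => by simpa using i1 _ (inv_mem ha) _ hy, i1 a ha y⟩⟩ ha x hx) with e | e
      · exact b1 (hc.disjoint.eq_bot_of_le (e ▸ hle))
      · exact k.2 e
  refine ⟨(C1 ⊓ C2).map (inh2_st ρ W₁).subtype, ⟨⟨?_⟩⟩, ?_⟩
  · rintro ⟨_, a, ha, rfl⟩ ⟨_, b, hb, rfl⟩
    refine Subtype.ext (hρ (LinearEquiv.ext fun x => ?_))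
    obtain ⟨y, hy, z, hz, rfl⟩ := Submodule.mem_sup.1 (hc.sup_eq_top ▸ Submodule.mem_top : x ∈ W₁ ⊔ W₂)
    have e1 := c1 a ha.1 b hb.1 y hy
    have e2 := c2 a ha.2 b hb.2 z hz
    simp only [MonoidHom.comp_apply] at e1 e2
    simp only [Subgroup.coe_mul, map_mul, LinearEquiv.mul_apply, map_add, e1, e2]
  · rw [index_map_subtype]
    calc _ ≤ (m * m) * 2 := Nat.mul_le_mul (index_inf_le.trans (Nat.mul_le_mul (h1 ▸ k1) (h2 ▸ k2))) hi
      _ = _ := by ring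

end Cfsg.Agent.K3C
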