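import Mathlib
import Cfsg.Agent.K3C.Defs

set_option autoImplicit false

namespace Cfsg.Agent.K3C

open Cfsg Subgroup GT.Frob Module Ch Ch.KT NT

/-- The bound for the primitive part. -/
def ntB (m : ℕ) : ℕ := (m + 1) ^ 2 * ((2 * m + 1) * (3 * m + 1))

theorem nt_key {q m M : ℕ} (hq : 2 ≤ q) (hm : 3 ≤ m) (hM : IsPrimDivisor q m M)
    (h : ∀ r, Ppd q m r → ¬ (4 * m + 1 ≤ r ∨ (2 * m ≤ r ∧ r ^ 2 ∣ q ^ m - 1) ∨ r ^ 3 ∣ q ^ m - 1)) :
    M ∣ ntB m := by
  rw [Nat.dvd_iff_prime_pow_dvd_dvd]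
  intro r k hr hk
  rcases Nat.eq_zero_or_pos k with rfl | k0
  · simp
  have hrM : r ∣ M := (dvd_pow_self r k0.ne').trans hk
  have ho := hM.orderOf_eq (by omega) (by omega) hr hrM
  have hp := (primitive_iff_orderOf_eq (r := r) (q := q) (n := m) (by omega) (by omega)).2 ho
  have h1 := h r ⟨hr, hp.1, fun i a b => hp.2 i a b⟩
  push Not at h1
  obtain ⟨h1, h2, h3⟩ := h1
  have k3 : k ≤ 2 := by
    by_contra c
    exact h3 ((pow_dvd_pow r (by omega)).trans (hk.trans hM.1))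
  obtain ⟨c, hc⟩ := dvd_sub_one_of_orderOf_eq hr (by omega) ho
  have hlt := lt_of_orderOf_eq hr (by omega) ho
  have k2 : 2 * m ≤ r → r ^ k ∣ r := fun a => by
    have : k = 1 := by
      by_contra c
      exact h2 a ((pow_dvd_pow r (by omega)).trans (hk.trans hM.1))
    rw [this, pow_one]
  have c4 : c < 4 := by
    by_contra c'
    have : m * 4 ≤ m * c := Nat.mul_le_mul_left m (by omega)
    omega
  interval_cases c
  · omega
  · rw [show r = m + 1 by omega]
    exact (pow_dvd_pow _ k3).mul_right _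
  · refine (k2 (by omega)).trans ?_
    rw [show r = 2 * m + 1 by omega]
    exact (dvd_mul_right _ _).mul_left _
  · refine (k2 (by omega)).trans ?_
    rw [show r = 3 * m + 1 by omega]
    exact (dvd_mul_left _ _).mul_left _

theorem nt_check0 :
    (List.range 91).all (fun m => decide (m < 3) || (List.range 541).all fun q =>
      decide (q < 11) || decide (4 * m * ntB m < q ^ cntCoprime m m) ||
        (decide (q < 540) && (decide (q % 2 = 0) || decide (m = 6 ∧ (q = 17 ∨ q = 31)) ||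
          (primTest q m (primPartCand q m) && decide (ntB m % primPartCand q m ≠ 0))))) = true := by
  decide +kernel

theorem nt_check (m : ℕ) (h1 : m < 91) (h2 : 3 ≤ m) (q : ℕ) (h3 : q < 541) (h4 : 11 ≤ q) :
    4 * m * ntB m < q ^ m.totient ∨ (q < 540 ∧ ((q % 2 = 0 ∨ (m = 6 ∧ (q = 17 ∨ q = 31))) ∨
      (primTest q m (primPartCand q m) = true ∧ ntB m % primPartCand q m ≠ 0))) := by
  have := List.all_eq_true.mp nt_check0 m (List.mem_range.mpr h1)
  simp only [Bool.or_eq_true, decide_eq_true_eq, List.all_eq_true, List.mem_range,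
    Bool.and_eq_true] at this
  rcases (this.resolve_left (by omega)) q h3 with (h | h) | h
  · omega
  · exact Or.inl (h.trans_le (Nat.pow_le_pow_right (by omega) (cntCoprime_le_totient le_rfl)))
  · exact Or.inr h

theorem exists_good_prime {q m : ℕ} (hq : q.Prime) (h11 : 11 ≤ q) (hm : 3 ≤ m) : ∃ r : ℕ,
    (Ppd q m r ∧ (4 * m + 1 ≤ r ∨ (2 * m ≤ r ∧ r ^ 2 ∣ q ^ m - 1) ∨ r ^ 3 ∣ q ^ m - 1)) ∨
      (r.Prime ∧ r ∣ q ^ m - 1 ∧ m * (q - 1) < r) := by
  by_contra hc
  have h : ∀ r, Ppd q m r → ¬ (4 * m + 1 ≤ r ∨ (2 * m ≤ r ∧ r ^ 2 ∣ q ^ m - 1) ∨ r ^ 3 ∣ q ^ m - 1) :=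
    fun r a b => hc ⟨r, .inl ⟨a, b⟩⟩
  have main : ¬ 4 * m * ntB m < q ^ m.totient := by
    obtain ⟨M, hM, hle⟩ := exists_primDivisor_pow_totient_le (q := q) (by omega) hm
    have := Nat.le_of_dvd (by unfold ntB; positivity) (nt_key (by omega) hm hM h)
    exact not_lt.2 (hle.trans (Nat.mul_le_mul_left _ this))
  by_cases h90 : 90 < m
  · refine main ?_
    have b := bound_le_two_pow_totient h90
    calc 4 * m * ntB m = 4 * m * (3 * m + 1) * ((2 * m + 1) * (m + 1) ^ 2) := by unfold ntB; ring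
      _ < 4 * m * (3 * m + 1) * ((4 * m) ^ 2 * (3 * m + 1) ^ 2) := by
        refine Nat.mul_lt_mul_of_pos_left ?_ (by positivity)
        exact Nat.mul_lt_mul_of_lt_of_le (by nlinarith) (Nat.pow_le_pow_left (by omega) 2) (by positivity)
      _ = (4 * m * (3 * m + 1)) ^ 3 := by ring
      _ ≤ (2 ^ m.totient) ^ 3 := Nat.pow_le_pow_left b 3
      _ = 8 ^ m.totient := by rw [← pow_mul, mul_comm, pow_mul]; norm_num
      _ ≤ q ^ m.totient := Nat.pow_le_pow_left (by omega) _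
  by_cases h5 : q < 540
  · rcases nt_check m (by omega) hm q (by omega) h11 with k | ⟨-, (k | ⟨rfl, rfl | rfl⟩) | ⟨k1, k2⟩⟩
    · exact main k
    · have := hq.eq_two_or_odd
      omega
    · exact hc ⟨307, .inr ⟨by norm_num, by norm_num, by norm_num⟩⟩
    · exact hc ⟨331, .inr ⟨by norm_num, by norm_num, by norm_num⟩⟩
    · exact k2 (Nat.mod_eq_zero_of_dvd (nt_key (by omega) hm (primTest_spec k1).1 h))
  · rcases nt_check m (by omega) hm 540 (by omega) (by omega) with k | ⟨k, -⟩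
    · exact main (k.trans_le (Nat.pow_le_pow_left (by omega) _))
    · omega

end Cfsg.Agent.K3C
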