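import Mathlib
import Cfsg.Agent.K3C.Defs

set_option autoImplicit false

namespace Cfsg.Agent.K3C

open Cfsg Subgroup GT.Frob Module Ch Ch.KT

variable {p : ℕ} [hp : Fact p.Prime] {V : Type*} [AddCommGroup V] [Module (ZMod p) V] [Finite V]
  {G : Type*} [Group G] [Finite G] {ρ : G →* (V ≃ₗ[ZMod p] V)} {u v : V}

theorem srg_arith {q n a b : ℕ} (hq : q.Prime) (ha : 0 < a) (hb : 0 < b) (h : a + b + 1 = q ^ n)
    {r s : ℤ} (h1 : (a : ℤ) + a * r + b * s = 0)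
    (h2 : (a : ℤ) ^ 2 + a * r ^ 2 + b * s ^ 2 = (q : ℤ) ^ n * a) :
    ∃ m, n = 2 * m ∧ ((q ^ m - 1 ∣ a ∧ q ^ m - 1 ∣ b) ∨ (q ^ m + 1 ∣ a ∧ q ^ m + 1 ∣ b)) := by
  have hv : (a : ℤ) + b + 1 = (q : ℤ) ^ n := by exact_mod_cast h
  have ha' : (a : ℤ) ≠ 0 := by exact_mod_cast ha.ne'
  have hb' : (b : ℤ) ≠ 0 := by exact_mod_cast hb.ne'
  have e1 : ((a : ℤ) + b) * r ^ 2 + 2 * a * r + a - b ^ 2 - b = 0 := by
    refine mul_left_cancel₀ ha' ?_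
    rw [← hv] at h2
    linear_combination (b : ℤ) * h2 + ((a : ℤ) + a * r - b * s) * h1
  have e2 : (((a : ℤ) + b) * r + a) ^ 2 = (b : ℤ) ^ 2 * (q : ℤ) ^ n := by
    rw [← hv]; linear_combination ((a : ℤ) + b) * e1
  obtain ⟨Y, hY⟩ := (Int.pow_dvd_pow_iff two_ne_zero).1 ⟨_, e2⟩
  have e3 : Y ^ 2 = (q : ℤ) ^ n := by
    rw [hY, mul_pow] at e2
    exact mul_left_cancel₀ (pow_ne_zero 2 hb') e2
  have e4 : Y.natAbs ^ 2 = q ^ n := by
    have := congrArg Int.natAbs e3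
    simpa [Int.natAbs_pow] using this
  obtain ⟨m, -, hm⟩ := (Nat.dvd_prime_pow hq).1 (show Y.natAbs ∣ q ^ n from e4 ▸ dvd_pow_self _ two_ne_zero)
  have hn : n = 2 * m := by
    rw [hm, ← pow_mul] at e4
    rw [← Nat.pow_right_injective hq.two_le e4, mul_comm]
  refine ⟨m, hn, ?_⟩
  rw [hn, mul_comm, pow_mul] at h
  generalize q ^ m = Q at h hm
  have hQ : (a : ℤ) + b + 1 = (Q : ℤ) ^ 2 := by exact_mod_cast h
  have Q2 : 2 ≤ Q := by
    by_contra hc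
    have : Q ≤ 1 := by omega
    have := Nat.pow_le_pow_left this 2
    omega
  rcases Int.natAbs_eq_iff.1 hm with rfl | rfl
  · have e5 : (b : ℤ) = ((Q - 1 : ℕ) : ℤ) * (r + 1) := by
      rw [Nat.cast_sub (by omega), Nat.cast_one]
      refine mul_left_cancel₀ (show (Q : ℤ) + 1 ≠ 0 by omega) ?_
      linear_combination (r + 1) * hQ - hY
    have e6 : (a : ℤ) = ((Q - 1 : ℕ) : ℤ) * (Q - r) := by
      rw [Nat.cast_sub (by omega), Nat.cast_one] at e5 ⊢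
      linear_combination hQ - e5
    exact .inl ⟨Int.natCast_dvd_natCast.1 ⟨_, e6⟩, Int.natCast_dvd_natCast.1 ⟨_, e5⟩⟩
  · have e5 : (b : ℤ) = ((Q + 1 : ℕ) : ℤ) * (-(r + 1)) := by
      push_cast
      refine mul_left_cancel₀ (show (Q : ℤ) - 1 ≠ 0 by omega) ?_
      linear_combination hY - (r + 1) * hQ
    have e6 : (a : ℤ) = ((Q + 1 : ℕ) : ℤ) * (Q + r) := by
      push_cast at e5 ⊢
      linear_combination hQ - e5
    exact .inr ⟨Int.natCast_dvd_natCast.1 ⟨_, e6⟩, Int.natCast_dvd_natCast.1 ⟨_, e5⟩⟩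

end Cfsg.Agent.K3C
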