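import Mathlib
import Cfsg.Agent.K3C.Defs

set_option autoImplicit false

namespace Cfsg.Agent.K3C

open Cfsg Subgroup GT.Frob Module Ch Ch.KT

variable {p : ℕ} [hp : Fact p.Prime] {V : Type*} [AddCommGroup V] [Module (ZMod p) V] [Finite V]
  {G : Type*} [Group G] [Finite G] {ρ : G →* (V ≃ₗ[ZMod p] V)} {u v : V}

theorem srgC_one : (ZMod.stdAddChar (N := p)) 1 ≠ 1 := fun h =>
  one_ne_zero (ZMod.injective_stdAddChar (h.trans (AddChar.map_zero_eq_one _).symm))

theorem srgC_sum {A : Type*} [AddCommGroup A] [Fintype A] (φ : A → ZMod p) (h : ∀ a b, φ (a + b) = φ a + φ b) {a : A}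
    (ha : φ a = 1) : ∑ b, ZMod.stdAddChar (φ b) = 0 := by
  refine eq_zero_of_mul_eq_self_left (srgC_one (p := p)) ?_
  rw [Finset.mul_sum, ← Equiv.sum_comp (Equiv.addLeft a) fun b => ZMod.stdAddChar (φ b)]
  exact Finset.sum_congr rfl fun b _ => by rw [Equiv.coe_addLeft, h, ha, AddChar.map_add_eq_mul]

open Classical in
theorem srgC_dual [Fintype (Dual (ZMod p) V)] (x : V) :
    ∑ f : Dual (ZMod p) V, ZMod.stdAddChar (f x) = if x = 0 then (p : ℂ) ^ finrank (ZMod p) V else 0 := by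
  split_ifs with h
  · simp [h, Module.card_eq_pow_finrank (K := ZMod p) (V := Dual (ZMod p) V), Subspace.dual_finrank_eq]
  · obtain ⟨f, hf⟩ := not_forall.1 ((Module.forall_dual_apply_eq_zero_iff (ZMod p) x).not.2 h)
    exact srgC_sum (fun f : Dual (ZMod p) V => f x) (fun _ _ => rfl) (a := (f x)⁻¹ • f) (inv_mul_cancel₀ hf)

theorem srgC_split {R : Type*} [CommRing R] (g : ZMod p → R) (n : ZMod p → ℕ) (h : ∀ c, c ≠ 0 → n c = n 1) :
    ∑ c, (n c : R) * g c = n 0 * g 0 + n 1 * (∑ c, g c - g 0) := by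
  rw [← Finset.add_sum_erase _ _ (Finset.mem_univ (0 : ZMod p)), ← Finset.add_sum_erase _ g (Finset.mem_univ 0),
    add_sub_cancel_left, Finset.mul_sum]
  congr 1
  exact Finset.sum_congr rfl fun c hc => by rw [h c (Finset.ne_of_mem_erase hc)]

theorem exists_theta [Fintype (Dual (ZMod p) V)] (O : Set V) (h0 : (0 : V) ∉ O)
    (hs : ∀ c : ZMod p, c ≠ 0 → ∀ w ∈ O, c • w ∈ O) : ∃ θ : Dual (ZMod p) V → ℤ,
      (∀ f, ((p : ℤ) - 1) * θ f = p * ({w | w ∈ O ∧ f w = 0}.ncard : ℤ) - O.ncard) ∧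
      ∑ f, θ f = 0 ∧ ∑ f, θ f ^ 2 = (p : ℤ) ^ finrank (ZMod p) V * O.ncard := by
  classical
  obtain ⟨T, rfl⟩ := (Set.toFinite O).exists_finset_coe
  simp only [Finset.mem_coe] at h0 hs
  let n : Dual (ZMod p) V → ZMod p → ℕ := fun f c => (T.filter fun w => f w = c).card
  have hn : ∀ f c, c ≠ 0 → n f c = n f 1 := fun f c hc =>
    Finset.card_bij' (fun w _ => c⁻¹ • w) (fun w _ => c • w)
      (fun w hw => by
        rw [Finset.mem_filter] at hw ⊢
        exact ⟨hs _ (inv_ne_zero hc) _ hw.1, by rw [map_smul, hw.2, smul_eq_mul, inv_mul_cancel₀ hc]⟩)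
      (fun w hw => by
        rw [Finset.mem_filter] at hw ⊢
        exact ⟨hs _ hc _ hw.1, by rw [map_smul, hw.2, smul_eq_mul, mul_one]⟩)
      (fun w _ => smul_inv_smul₀ hc w) fun w _ => inv_smul_smul₀ hc w
  have fib : ∀ {R : Type} [CommRing R] (g : ZMod p → R) (f : Dual (ZMod p) V),
      ∑ w ∈ T, g (f w) = n f 0 * g 0 + n f 1 * (∑ c, g c - g 0) := fun g f => by
    rw [← srgC_split g (n f) (hn f), ← Finset.sum_fiberwise' T f g]
    simp only [Finset.sum_const, nsmul_eq_mul, n]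
  have hθ : ∀ f : Dual (ZMod p) V, (((n f 0 : ℤ) - n f 1 : ℤ) : ℂ) = ∑ w ∈ T, ZMod.stdAddChar (f w) := fun f => by
    rw [fib, srgC_sum (fun c : ZMod p => c) (fun _ _ => rfl) rfl, AddChar.map_zero_eq_one]
    push_cast
    ring
  refine ⟨fun f => n f 0 - n f 1, fun f => ?_, ?_, ?_⟩
  · have e := fib (fun _ => (1 : ℤ)) f
    have e2 : {w | w ∈ (T : Set V) ∧ f w = 0}.ncard = n f 0 := by
      refine Eq.trans ?_ (Set.ncard_coe_finset _)
      congr 1
      ext w
      simp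
    simp only [Finset.sum_const, nsmul_eq_mul, mul_one, Finset.card_univ, ZMod.card] at e
    rw [e2, Set.ncard_coe_finset, e]
    ring
  · refine Int.cast_injective (α := ℂ) ?_
    rw [Int.cast_sum, Finset.sum_congr rfl fun f _ => hθ f, Finset.sum_comm, Int.cast_zero]
    exact Finset.sum_eq_zero fun w hw => by rw [srgC_dual, if_neg fun e : w = 0 => h0 (e ▸ hw)]
  · refine Int.cast_injective (α := ℂ) ?_
    have e : ∀ f : Dual (ZMod p) V, ((((n f 0 : ℤ) - n f 1) ^ 2 : ℤ) : ℂ) =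
        ∑ w ∈ T, ∑ w' ∈ T, ZMod.stdAddChar (f (w + w')) := fun f => by
      rw [Int.cast_pow, hθ, sq, Finset.sum_mul_sum]
      simp only [map_add, AddChar.map_add_eq_mul]
    rw [Int.cast_sum, Finset.sum_congr rfl fun f _ => e f, Finset.sum_comm, Set.ncard_coe_finset]
    push_cast
    rw [mul_comm, ← nsmul_eq_mul, ← Finset.sum_const]
    refine Finset.sum_congr rfl fun w hw => ?_
    rw [Finset.sum_comm]
    simp only [srgC_dual, add_eq_zero_iff_neg_eq]
    rw [Finset.sum_ite_eq, if_pos (by simpa using hs (-1) (neg_ne_zero.2 one_ne_zero) w hw)]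

end Cfsg.Agent.K3C
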