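import Mathlib
import Cfsg.Agent.K3C.Defs
import Cfsg.Agent.K3C.Dual1
import Cfsg.Agent.K3C.Dual2
import Cfsg.Agent.K3C.SrgC
import Cfsg.Agent.K3C.SrgA

set_option autoImplicit false

namespace Cfsg.Agent.K3C

open Cfsg Subgroup GT.Frob Module Ch Ch.KT

variable {p : ℕ} [hp : Fact p.Prime] {V : Type*} [AddCommGroup V] [Module (ZMod p) V] [Finite V]
  {G : Type*} [Group G] [Finite G] {ρ : G →* (V ≃ₗ[ZMod p] V)} {u v : V}

omit [Finite G] in
theorem srg_orb_sum (F : V → ℤ) (hF : ∀ g w, F (ρ g w) = F w) (w : V) :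
    ∑ x ∈ (Set.toFinite (orb ρ w)).toFinset, F x = (orb ρ w).ncard * F w := by
  rw [Set.ncard_eq_toFinset_card _ (Set.toFinite _), ← nsmul_eq_mul, ← Finset.sum_const]
  refine Finset.sum_congr rfl fun x hx => ?_
  obtain ⟨g, rfl⟩ := (Set.Finite.mem_toFinset _).1 hx
  exact hF g w

omit [Finite G] in
theorem srg_split [Fintype V] (h : Bad ρ u v) (F : V → ℤ) (hF : ∀ g w, F (ρ g w) = F w) :
    ∑ w, F w = F 0 + (orb ρ u).ncard * F u + (orb ρ v).ncard * F v := by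
  classical
  have h1 : (Finset.univ : Finset V) =
      insert 0 ((Set.toFinite (orb ρ u)).toFinset ∪ (Set.toFinite (orb ρ v)).toFinset) := by
    ext w
    simp only [Finset.mem_univ, Finset.mem_insert, Finset.mem_union, Set.Finite.mem_toFinset, true_iff]
    by_cases hw : w = 0
    · exact .inl hw
    · exact .inr (h.cov w hw)
  rw [h1, Finset.sum_insert, Finset.sum_union, srg_orb_sum F hF, srg_orb_sum F hF, add_assoc]
  · exact Set.Finite.disjoint_toFinset.2 (bas_disj h)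
  · simp only [Finset.mem_union, Set.Finite.mem_toFinset, not_or]
    exact ⟨bas_zero h.u0, bas_zero h.v0⟩

omit [Finite V] [Finite G] in
theorem srg_inv (g : G) (f : Dual (ZMod p) V) (w : V) :
    {x | x ∈ orb ρ w ∧ dualRep ρ g f x = 0}.ncard = {x | x ∈ orb ρ w ∧ f x = 0}.ncard := by
  rw [← Set.ncard_image_of_injective _ (ρ g⁻¹).injective]
  congr 1
  ext x
  constructor
  · rintro ⟨y, ⟨⟨a, rfl⟩, hy⟩, rfl⟩
    exact ⟨⟨g⁻¹ * a, by simp⟩, hy⟩
  · rintro ⟨⟨a, rfl⟩, hx⟩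
    refine ⟨ρ (g * a) w, ⟨⟨g * a, rfl⟩, ?_⟩, by simp⟩
    rw [dualRep_apply]
    simpa using hx

theorem srg_aux (h : Bad ρ u v) (hs : Scal ρ) {l m : Dual (ZMod p) V} (h' : Bad (dualRep ρ) l m)
    (e : (orb (dualRep ρ) l).ncard = (orb ρ u).ncard) : ∃ m, finrank (ZMod p) V = 2 * m ∧
    ((p ^ m - 1 ∣ (orb ρ u).ncard ∧ p ^ m - 1 ∣ (orb ρ v).ncard) ∨
      (p ^ m + 1 ∣ (orb ρ u).ncard ∧ p ^ m + 1 ∣ (orb ρ v).ncard)) := by
  have := Fintype.ofFinite (Dual (ZMod p) V)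
  have h1 := h.add
  have h2 := h'.add
  rw [Subspace.dual_finrank_eq] at h2
  have e' : (orb (dualRep ρ) m).ncard = (orb ρ v).ncard := by omega
  obtain ⟨θ, t1, t2, t3⟩ := exists_theta (p := p) (orb ρ u) (bas_zero h.u0) fun c hc w hw => by
    rw [← orb_eq_of_mem hw]; exact hs c hc w
  have hp1 : (p : ℤ) - 1 ≠ 0 := by
    have := hp.out.two_le
    omega
  have hi : ∀ g f, θ (dualRep ρ g f) = θ f := fun g f =>
    mul_left_cancel₀ hp1 (by rw [t1, t1, srg_inv])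
  have h0 : θ 0 = (orb ρ u).ncard := by
    refine mul_left_cancel₀ hp1 ?_
    rw [t1]
    simp only [LinearMap.zero_apply, and_true, Set.ofPred_mem_eq]
    ring
  rw [srg_split h' θ hi, h0, e, e'] at t2
  rw [srg_split h' (fun f => θ f ^ 2) (fun g f => by rw [hi]), h0, e, e'] at t3
  exact srg_arith hp.out ((Set.ncard_pos (Set.toFinite _)).2 ⟨u, self_mem_orb u⟩)
    ((Set.ncard_pos (Set.toFinite _)).2 ⟨v, self_mem_orb v⟩) h1 t2 t3

theorem Bad.srg (h : Bad ρ u v) (hs : Scal ρ) : ∃ m, finrank (ZMod p) V = 2 * m ∧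
    ((p ^ m - 1 ∣ (orb ρ u).ncard ∧ p ^ m - 1 ∣ (orb ρ v).ncard) ∨
      (p ^ m + 1 ∣ (orb ρ u).ncard ∧ p ^ m + 1 ∣ (orb ρ v).ncard)) := by
  obtain ⟨l, m, h'⟩ := h.dual
  rcases h.dual_card h' with e | e
  · exact srg_aux h hs h' e
  · exact srg_aux h hs h'.symm e

end Cfsg.Agent.K3C
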