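import Mathlib
import Cfsg.Agent.K3C.Defs
import Cfsg.Agent.K3C.Small

set_option autoImplicit false

namespace Cfsg.Agent.K3C

open Cfsg Subgroup GT.Frob Module Ch Ch.KT

variable {p : ℕ} [hp : Fact p.Prime] {V : Type*} [AddCommGroup V] [Module (ZMod p) V] [Finite V]
  {G : Type*} [Group G] [Finite G] {ρ : G →* (V ≃ₗ[ZMod p] V)} {u v : V}

theorem two_arith {q z t : ℕ} (hq : q.Prime) (h11 : 11 ≤ q) (h1 : q ^ 2 - 1 ≤ 2 * (z * t))
    (h2 : 7 * z < q) (hz : 0 < z) : 42 ≤ t ∧ (t = 60 → q = 11 ∧ z = 1) := by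
  obtain ⟨w, rfl⟩ : ∃ w, q = w + 1 := ⟨q - 1, by omega⟩
  rw [show (w + 1) ^ 2 - 1 = w * (w + 2) by rw [Nat.sub_eq_iff_eq_add (by nlinarith)]; ring] at h1
  have h3 : w * (7 * (w + 2)) ≤ w * (2 * t) := by
    have := Nat.mul_le_mul_right (2 * t) (show 7 * z ≤ w by omega)
    nlinarith
  have h4 := Nat.le_of_mul_le_mul_left h3 (by omega)
  refine ⟨by omega, fun e => ?_⟩
  subst e
  have h5 : w ≤ 15 := by omega
  have h6 : 10 ≤ w := by omega
  interval_cases w
  · omega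
  · exact absurd hq (by norm_num)
  · omega
  · exact absurd hq (by norm_num)
  · exact absurd hq (by norm_num)
  · exact absurd hq (by norm_num)

theorem two_inv_alt : ∃ s t : alternatingGroup (Fin 5), s ≠ t ∧ s ≠ 1 ∧ t ≠ 1 ∧ s * s = 1 ∧
    t * t = 1 := by decide +kernel

omit [Finite V] [Finite G] in
/-- In a semiregular linear group an involution is `-1`. -/
theorem two_neg (hreg : ∀ w : V, w ≠ 0 → stab ρ w = ⊥) {s : G} (h1 : s ≠ 1) (h2 : s * s = 1)
    (x : V) : ρ s x = -x := by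
  rw [eq_neg_iff_add_eq_zero]
  by_contra hx
  have h3 : s ∈ stab ρ (ρ s x + x) := by
    rw [mem_stab, map_add, ← LinearEquiv.mul_apply, ← map_mul, h2, map_one, add_comm]
    rfl
  rw [hreg _ hx] at h3
  exact h1 (mem_bot.1 h3)

theorem Bad.ne_two (h : Bad ρ u v) : finrank (ZMod p) V ≠ 2 := by
  intro hn
  let _ := DistribMulAction.compHom V ρ
  have : FaithfulSMul G V := ⟨fun e => h.inj (LinearEquiv.ext e)⟩
  have h11 := h.eleven
  have hle := h.le_card
  have hadd := h.add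
  rw [hn] at hle hadd
  rcases two_dim_quot (K := ZMod p) (W := V) (C := G) p h.cop (fun g c v => map_smul (ρ g) c v) hn
    with ⟨L, l1, l2, l3⟩ | ⟨B, b1, b2⟩ | ⟨π, z1, z2, z3⟩
  · rcases h.irr L (fun g _ w hw => l3 g w hw) with e | e
    · exact l1 e
    · exact l2 e
  · have h1 := h.le_sq B
    rw [hn] at h1
    have h2 : B.index ^ 2 * (p - 1) ≤ 2 ^ 2 * (p - 1) :=
      Nat.mul_le_mul_right _ (Nat.pow_le_pow_left b2 2)
    obtain ⟨w, rfl⟩ : ∃ w, p = w + 1 := ⟨p - 1, by omega⟩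
    rw [show (w + 1) ^ 2 - 1 = w * (w + 2) by
      rw [Nat.sub_eq_iff_eq_add (by nlinarith)]; ring] at h1
    rw [Nat.add_sub_cancel] at h1 h2
    nlinarith
  have key : ∀ {Q : Type} [Group Q] [Fintype Q] [DecidableEq Q] (_ : π.range ≃* Q) {t : ℕ},
      Nat.card Q = t → 7 * t ≤ 2 * ∑ y : Q, wt t y →
        42 ≤ t ∧ (t = 60 → p = 11 ∧ Nat.card G = 60 ∧ Nonempty (G ≃* Q)) := by
    intro Q _ _ _ e t ht hw
    let f : G →* Q := e.toMonoidHom.comp π.rangeRestrict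
    have hf : Function.Surjective f := e.surjective.comp π.rangeRestrict_surjective
    have hker : f.ker = π.ker := by
      rw [← π.ker_rangeRestrict]
      exact MonoidHom.ker_comp_of_injective _ _ e.injective
    have h1 := k_ge_of_central f hf (hker ▸ z1) ht hw
    have h2 : Nat.card G = Nat.card f.ker * t := by
      rw [hker, ← ht, ← Nat.card_congr e.toEquiv, ← index_ker, card_mul_index]
    obtain ⟨a1, a2⟩ := two_arith hp.out h11 (h2 ▸ hle) (h1.trans_lt h.few) Nat.card_pos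
    refine ⟨a1, fun e => ?_⟩
    obtain ⟨a3, a4⟩ := a2 e
    refine ⟨a3, by rw [h2, a4, e], ⟨MulEquiv.ofBijective f ⟨?_, hf⟩⟩⟩
    rw [← MonoidHom.ker_eq_bot_iff]
    exact card_eq_one.1 a4
  rcases z3 with ⟨⟨e⟩⟩ | ⟨⟨e⟩⟩ | ⟨⟨e⟩⟩
  · have := (key e card_alt_four wt_alt_four).1
    omega
  · have := (key e card_perm_four wt_perm_four).1
    omega
  obtain ⟨a1, a2, ⟨φ⟩⟩ := (key e card_alt_five wt_alt_five).2 rfl
  have hu := Nat.le_of_dvd Nat.card_pos (ncard_orb_dvd (ρ := ρ) u)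
  have hv := Nat.le_of_dvd Nat.card_pos (ncard_orb_dvd (ρ := ρ) v)
  have h121 : p ^ 2 = 121 := by rw [a1]; norm_num
  have hreg : ∀ w : V, w ≠ 0 → stab ρ w = ⊥ := fun w hw => by
    have h1 : (stab ρ w).index = 60 := by
      rw [← ncard_orb]
      rcases h.orb_eq hw with e | e <;> rw [e] <;> omega
    have h2 := (stab ρ w).card_mul_index
    rw [h1, a2] at h2
    exact card_eq_one.1 (by omega)
  obtain ⟨s, t, c1, c2, c3, c4, c5⟩ := two_inv_alt
  refine c1 (φ.symm.injective (h.inj (LinearEquiv.ext fun x => ?_)))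
  rw [two_neg hreg (φ.symm.map_ne_one_iff.2 c2) (by rw [← map_mul, c4, map_one]),
    two_neg hreg (φ.symm.map_ne_one_iff.2 c3) (by rw [← map_mul, c5, map_one])]

end Cfsg.Agent.K3C
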