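import Mathlib
import Cfsg.Agent.K3C.Defs
import Cfsg.Agent.K3C.AbIdx

set_option autoImplicit false

namespace Cfsg.Agent.K3C

open Cfsg Subgroup GT.Frob Module Ch Ch.KT

variable {p : ℕ} [hp : Fact p.Prime] {V : Type*} [AddCommGroup V] [Module (ZMod p) V] [Finite V]
  {G : Type*} [Group G] [Finite G] {ρ : G →* (V ≃ₗ[ZMod p] V)} {u v : V}

theorem zs_pow (m : ℕ) : 2 * (m + 4) * (m + 5) * (2 * m + 9) < 11 ^ (m + 3) := by
  induction m with
  | zero => norm_num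
  | succ m ih =>
    rw [show m + 1 + 3 = m + 3 + 1 from rfl, pow_succ]
    nlinarith [Nat.zero_le m, Nat.zero_le (m * m), Nat.zero_le (m * m * m)]

theorem zs_arith {p n z : ℕ} (hp : p.Prime) (h11 : 11 ≤ p) (h3 : 3 ≤ n) (hz : 2 * z < p)
    (h : p ^ n - 1 ≤ z * ((2 * n + 1) * ((2 * n + 1) ^ 2 - 1))) : n = 3 ∧ p = 11 := by
  obtain ⟨m, rfl⟩ : ∃ m, n = m + 3 := ⟨n - 3, by omega⟩
  obtain ⟨t, rfl⟩ : ∃ t, p = t + 1 := ⟨p - 1, by omega⟩
  rw [show (2 * (m + 3) + 1) ^ 2 - 1 = 4 * (m + 3) * (m + 4) from Nat.sub_eq_of_eq_add (by ring),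
    show m + 3 = m + 2 + 1 from rfl, pow_succ] at h
  have h0 : 0 < (t + 1) ^ (m + 2) := by positivity
  have k : (t + 1) ^ (m + 2) ≤ 2 * (m + 3) * (m + 4) * (2 * m + 7) := by
    refine Nat.le_of_mul_le_mul_right (c := 2 * t) ?_ (by omega)
    have h1 : (t + 1) ^ (m + 2) * t ≤ (t + 1) ^ (m + 2) * (t + 1) - 1 := by
      rw [mul_add, mul_one]
      omega
    have h2 : 2 * z ≤ t := by omega
    calc _ = 2 * ((t + 1) ^ (m + 2) * t) := by ring
      _ ≤ 2 * (z * ((2 * (m + 2 + 1) + 1) * (4 * (m + 2 + 1) * (m + 4)))) := Nat.mul_le_mul_left 2 (h1.trans h)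
      _ = 2 * z * ((2 * m + 7) * (4 * (m + 3) * (m + 4))) := by ring
      _ ≤ t * ((2 * m + 7) * (4 * (m + 3) * (m + 4))) := Nat.mul_le_mul_right _ h2
      _ = _ := by ring
  rcases m with _ | m
  · refine ⟨rfl, ?_⟩
    have : t + 1 ≤ 12 := by
      by_contra n
      have := Nat.pow_le_pow_left (show 13 ≤ t + 1 by omega) (0 + 2)
      omega
    obtain e | e : t + 1 = 11 ∨ t + 1 = 12 := by omega
    · exact e
    · exact absurd (e ▸ hp) (by norm_num)
  · have h1 := zs_pow m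
    have h2 : 11 ^ (m + 3) ≤ (t + 1) ^ (m + 1 + 2) := Nat.pow_le_pow_left h11 _
    have h4 : 2 * (m + 1 + 3) * (m + 1 + 4) * (2 * (m + 1) + 7) = 2 * (m + 4) * (m + 5) * (2 * m + 9) := by ring
    omega

theorem Bad.zs (h : Bad ρ u v) (h3 : 3 ≤ finrank (ZMod p) V)
    (hd : ∀ r e : ℕ, Ppd p (finrank (ZMod p) V) r → r ^ e ∣ p ^ finrank (ZMod p) V - 1 →
      r ^ e ∣ Nat.card G) : False := by
  have := h.nontrivial
  have h11 := h.eleven
  have hρ := h.inj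
  obtain ⟨r, r1, r2, r3, hl⟩ := NT.large_zsigmondy (n := finrank (ZMod p) V) hp.out.two_le (by omega)
    (by omega) (by omega) (by omega) (by omega)
  have hr : Ppd p (finrank (ZMod p) V) r := ⟨r1, r2, r3⟩
  have : Fact r.Prime := ⟨hr.1⟩
  obtain ⟨χ, hχ, hf, hc⟩ := exists_char hρ h.cop
  have h1 : r ∣ Nat.card G := by simpa using hd r 1 hr (by simpa using r2)
  have h2 := (NT.primitive_iff_orderOf_eq hp.out.pos (by omega)).1 ⟨hr.2.1, hr.2.2⟩
  have h3' := NT.lt_of_orderOf_eq hr.1 (by omega) h2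
  have h4 := NT.dvd_sub_one_of_orderOf_eq hr.1 (by omega) h2
  by_cases h5 : r ^ 2 ∣ Nat.card G
  · obtain ⟨P⟩ : Nonempty (Sylow r G) := inferInstance
    exact h.not_ab (hr.ab hρ (normal_of_sq _ G rfl χ hχ hf (hc ▸ h3')
      (fun x hx a b ha hb => hr.comm hρ hx ha hb) h5 P) P.isPGroup' (sylow_ne_bot h1 P))
  have h6 := hl.resolve_right fun e => h5 (hd r 2 hr e)
  have h7 : 2 * finrank (ZMod p) V + 1 ≤ r := by
    obtain ⟨c, hc⟩ := h4
    have : 2 ≤ c := by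
      by_contra h
      have : c = 0 ∨ c = 1 := by omega
      rcases this with rfl | rfl <;> omega
    have := Nat.mul_le_mul_left (finrank (ZMod p) V) this
    omega
  rcases normal_or_psl hχ hf (hc ▸ h7) h1 h5 with ⟨H, hH, hc⟩ | ⟨h8, h9⟩
  · exact h.not_ab (hr.ab hρ hH (IsPGroup.of_card (hc.trans (pow_one r).symm)) fun e =>
      hr.1.one_lt.ne (by rw [← hc, e, card_bot]))
  rw [← h8, hc] at h9
  have hz := h.center_lt
  obtain ⟨e1, e2⟩ := zs_arith hp.out h11 h3 hz (h9 ▸ h.le_card)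
  have h19 := hd 19 1 (by
    rw [e1, e2]
    exact ⟨by norm_num, by norm_num, fun i a b => by interval_cases i <;> norm_num⟩) (by rw [e1, e2]; norm_num)
  have z0 : 0 < Nat.card (center G) := Nat.card_pos
  rw [e1] at h9
  omega

end Cfsg.Agent.K3C
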