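import Mathlib
import Cfsg.Agent.K3C.Defs
import Cfsg.Agent.K3C.Two
import Cfsg.Agent.K3C.Cnt2
import Cfsg.Agent.K3C.Zs
import Cfsg.Agent.K3C.Srg
import Cfsg.Agent.K3C.Eig
import Cfsg.Agent.K3C.NT
import Cfsg.Agent.K3C.Core
import Cfsg.Agent.K3C.Inh1
import Cfsg.Agent.K3C.Inh2
import Cfsg.Agent.K3C.Hom2

/-!
# Class numbers of `p'`-groups with at most two orbits on non-zero vectors
-/

set_option autoImplicit false

namespace Cfsg.Agent.K3C

open Cfsg Subgroup GT.Frob Module Ch Ch.KT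

variable {p : ℕ} [hp : Fact p.Prime] {V : Type*} [AddCommGroup V] [Module (ZMod p) V] [Finite V]
  {G : Type*} [Group G] [Finite G] {ρ : G →* (V ≃ₗ[ZMod p] V)} {u v : V}

theorem top_center {r : ℕ} [Fact r.Prime] (h0 : pCore r G ≠ ⊥) : ∃ N : Subgroup G, N.Normal ∧
    IsMulCommutative N ∧ IsPGroup r N ∧ N ≠ ⊥ := by
  have h1 := GT.isPGroup_pCore (G := G) r
  have := GT.pCore_characteristic (G := G) (p := r)
  generalize pCore r G = O at h0 h1 this
  obtain ⟨x, hx, ho, hc⟩ := exists_central_order h1 h0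
  refine ⟨O ⊓ centralizer (O : Set G), inferInstance,
    ⟨⟨fun a b => Subtype.ext (b.2.2 a a.2.1)⟩⟩, h1.to_inf_left, fun e => ?_⟩
  have h2 : x ∈ O ⊓ centralizer (O : Set G) := ⟨hx, fun a ha => hc a ha⟩
  rw [e, mem_bot] at h2
  exact (Fact.out : r.Prime).one_lt.ne (by rw [← ho, h2, orderOf_one])

theorem Bad.lat (h : Bad ρ u v) {m : ℕ} (hn : finrank (ZMod p) V = 2 * m) (hm : 3 ≤ m)
    (hd : ∀ w : V, w ≠ 0 → p ^ m - 1 ∣ (orb ρ w).ncard) : False := by
  have hG : p ^ m - 1 ∣ Nat.card G := (hd u h.u0).trans (ncard_orb_dvd u)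
  obtain ⟨r, ⟨hr, hl⟩ | ⟨r1, r2, r3⟩⟩ := exists_good_prime hp.out h.eleven hm
  · have : Fact r.Prime := ⟨hr.1⟩
    obtain ⟨N, _, _, hN, h0⟩ := top_center (r := r) (G := G) (hl.elim
      (h.pCore_big hn hm (hr.2.1.trans hG)) (h.pCore_pow hn hm hd hr))
    by_cases hF : FieldOn ρ N
    · obtain ⟨B, _, hB⟩ := h.hom hr (by omega) hn hN h0 hF
      have := h.index_gt hn hm B
      nlinarith
    · obtain ⟨W₁, W₂, a1, a2, a3, a4, a5, a6⟩ := h.split hr (by omega) hn hN h0 hF
      obtain ⟨B, _, hB⟩ := exists_comm_of_split h.inj (by omega) a1 a2 a3 a4 a5 a6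
      have := h.index_gt hn hm B
      omega
  · have h1 := prime_le h.inj h.cop r1 (r2.trans hG)
    have h2 := Nat.mul_le_mul_left m (Nat.le_sub_one_of_lt h.few)
    rw [hn, mul_comm 2, mul_assoc] at h1
    omega

theorem Bad.false (h : Bad ρ u v) : False := by
  have h2 := h.two
  have h3 := h.ne_two
  by_cases hab : (orb ρ u).ncard = (orb ρ v).ncard
  · refine h.zs (by omega) fun r e hr he => ?_
    have h4 := h.add
    have h5 := NT.lt_of_orderOf_eq hr.1 (by omega)
      ((NT.primitive_iff_orderOf_eq hp.out.pos (by omega)).1 ⟨hr.2.1, hr.2.2⟩)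
    rw [show p ^ finrank (ZMod p) V - 1 = 2 * (orb ρ u).ncard by omega] at he
    exact ((((Nat.coprime_primes hr.1 Nat.prime_two).2 (by omega)).pow_left e).dvd_of_dvd_mul_left
      he).trans (ncard_orb_dvd u)
  have hs := h.scal hab
  have h5 := h.five hs
  obtain ⟨m, hm, hd | hd⟩ := h.srg hs
  · refine h.lat hm (by omega) fun w hw => ?_
    rcases h.orb_eq hw with e | e <;> rw [e]
    exacts [hd.1, hd.2]
  · refine h.zs (by omega) fun r e hr he => ?_
    have h6 := ((Nat.Prime.coprime_iff_not_dvd hr.1).2 (hr.2.2 m (by omega) (by omega))).pow_left e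
    rw [hm, mul_comm, pow_mul, ← one_pow 2, Nat.sq_sub_sq] at he
    exact ((h6.dvd_of_dvd_mul_right he).trans hd.1).trans (ncard_orb_dvd u)

theorem lin [Nontrivial V] (hρ : Function.Injective ρ) (hG : ¬ p ∣ Nat.card G)
    (h : ∀ w, w ≠ 0 → w ∈ orb ρ u ∨ w ∈ orb ρ v) : p ≤ 2 * Nat.card (ConjClasses G) ∨
      (Nat.card V = p ∧ 2 * Nat.card G = p - 1 ∧ 2 * Nat.card (ConjClasses G) = p - 1) := by
  refine (le_or_gt p _).imp_right fun hk => ?_
  have hV := card_eq_pow (p := p) (V := V)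
  have h0 : 0 < finrank (ZMod p) V := finrank_pos
  by_cases h2 : finrank (ZMod p) V = 1
  · rw [h2, pow_one] at hV
    have hI : IrrOn ρ ⊥ := fun W _ => (isSimpleModule_iff_finrank_eq_one.2 h2).eq_bot_or_eq_top W
    have h5 := FG.card_conjClasses_subgroup_le (centralizer ((⊥ : Subgroup G) : Set G))
    have := hI.isCyclic_centralizer hρ
    rw [FG.PC.card_conjClasses_of_comm inferInstance,
      centralizer_eq_top_iff_subset.2 (by simp), index_top, one_mul, card_top] at h5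
    have h6 := (Set.ncard_le_ncard (s := ({0}ᶜ : Set V)) (t := orb ρ u ∪ orb ρ v) h).trans
      (Set.ncard_union_le _ _)
    rw [Set.ncard_compl, Set.ncard_singleton, hV] at h6
    have h7 := Nat.le_of_dvd Nat.card_pos (ncard_orb_dvd (ρ := ρ) u)
    have h8 := Nat.le_of_dvd Nat.card_pos (ncard_orb_dvd (ρ := ρ) v)
    exact ⟨hV, by omega, by omega⟩
  exfalso
  have key : ∀ x : V, (∀ w, w ≠ 0 → w ∈ orb ρ x) → False := fun x hx => by
    rcases k_lower hρ hG (fun a b ha hb => by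
      have h1 := hx b hb
      rwa [← orb_eq_of_mem (hx a ha)] at h1) with a | ⟨a, -⟩ | ⟨a, -, -, ⟨e⟩⟩
    · omega
    · exact h2 (Nat.pow_right_injective hp.out.two_le ((hV.symm.trans a).trans (pow_one p).symm))
    · have h3 := FG.card_conjClasses_le_of_surjective e.toMonoidHom e.surjective
      rw [k_sl] at h3
      omega
  have h3 : ∀ w : V, w ≠ 0 → w ∉ orb ρ 0 := fun w hw ⟨g, hg⟩ => hw (by simpa using hg.symm)
  refine Bad.false (ρ := ρ) (u := u) (v := v) ⟨hρ, hG, ?_, ?_, fun e => key u fun w hw => ?_, h,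
    by omega, hk⟩
  · rintro rfl
    exact key v fun w hw => (h w hw).resolve_left (h3 w hw)
  · rintro rfl
    exact key u fun w hw => (h w hw).resolve_right (h3 w hw)
  · have h4 := h w hw
    rwa [orb_eq_of_mem e, or_self] at h4

end Cfsg.Agent.K3C
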