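import Mathlib
import Cfsg.Agent.K3C.Defs
import Cfsg.Agent.K3C.Top
import Cfsg.Agent.K3C.Grp1
import Cfsg.Agent.GT.MinNormal
import Cfsg.Agent.S4878

set_option autoImplicit false

namespace Cfsg.Agent.K3C

open Cfsg Subgroup GT.Frob Module Ch Ch.KT

variable {p : ℕ} [hp : Fact p.Prime] {V : Type*} [AddCommGroup V] [Module (ZMod p) V] [Finite V]
  {G : Type*} [Group G] [Finite G] {ρ : G →* (V ≃ₗ[ZMod p] V)} {u v : V}

theorem core2 (hs : IsPSolvable p G) (hd : p ∣ Nat.card G) (h : TwoCl p G)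
    (hO : pPrimeCore p G = ⊥) : p ≤ 2 * kp p G ∨ ∃ A H : Subgroup G, A.Normal ∧
      IsElementaryAbelian p A ∧ centralizer (A : Set G) ≤ A ∧ IsComplement' A H ∧
      ¬ p ∣ Nat.card H ∧ Nat.card A = p ∧ 2 * Nat.card H = p - 1 ∧
      2 * Nat.card (ConjClasses H) = p - 1 := by
  have hc := hs.centralizer_pCore_le hO
  have hpV := GT.isPGroup_pCore (G := G) p
  have := GT.pCore_characteristic (G := G) (p := p)
  generalize pCore p G = O at hc hpV this
  have h0 : O ≠ ⊥ := fun e => by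
    rw [e, centralizer_eq_top_iff_subset.2 (by simp), top_le_iff] at hc
    rw [← card_top (G := G), ← hc, card_bot] at hd
    exact hp.out.not_dvd_one hd
  have := GT.CopAct.isSolvable_of_isPGroup hpV
  obtain ⟨A, q, hm, hAO, hq, hA⟩ := GT.exists_isMinNormal_elementary_le h0
  have hN := hm.normal
  obtain ⟨⟨z, hz⟩, hz1⟩ := ne_bot_iff_exists_ne_one.1 hm.ne_bot
  replace hz1 : z ≠ 1 := fun e => hz1 (Subtype.ext e)
  have hord : ∀ x ∈ O, ∃ k, orderOf x = p ^ k := fun x hx => by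
    simpa using IsPGroup.iff_orderOf.1 hpV ⟨x, hx⟩
  obtain rfl : p = q := by
    have : Fact q.Prime := ⟨hq⟩
    obtain ⟨k, hk⟩ := hord z (hAO hz)
    rw [orderOf_eq_prime (hA.2 z hz) hz1] at hk
    exact ((Nat.prime_dvd_prime_iff_eq hq hp.out).1 (hq.dvd_of_dvd_pow hk.dvd)).symm
  have hmem : ∀ {x y : G}, IsConj x y → x ∈ A → y ∈ A := fun e hx => by
    obtain ⟨c, rfl⟩ := isConj_iff.1 e
    exact hN.conj_mem _ hx c
  obtain ⟨a, b, hab⟩ := h
  have hπ := QuotientGroup.mk'_surjective A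
  by_cases h3 : p ∣ A.index
  · left
    have key : ∀ x y : G, x ∉ A → y ∉ A → (∃ k, orderOf x = p ^ k) → (∃ k, orderOf y = p ^ k) →
        IsConj x y := fun x y hx hy hx' hy' => by
      have x1 := hab x (fun e => hx (e ▸ one_mem A)) hx'
      have y1 := hab y (fun e => hy (e ▸ one_mem A)) hy'
      rcases hab z hz1 (hord z (hAO hz)) with e | e
      · exact (x1.resolve_left fun f => hx (hmem f (hmem e.symm hz))).symm.trans
          (y1.resolve_left fun f => hy (hmem f (hmem e.symm hz)))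
      · exact (x1.resolve_right fun f => hx (hmem f (hmem e.symm hz))).symm.trans
          (y1.resolve_right fun f => hy (hmem f (hmem e.symm hz)))
    have h4 := S4878.result p (hs.quotient A) h3 fun x y hx hy hx' hy' => by
      obtain ⟨x, rfl, hx2⟩ := FG.H96.exists_pElement_lift hπ hx'
      obtain ⟨y, rfl, hy2⟩ := FG.H96.exists_pElement_lift hπ hy'
      exact (QuotientGroup.mk' A).map_isConj (key x y
        (fun e => hx ((QuotientGroup.eq_one_iff x).2 e))
        (fun e => hy ((QuotientGroup.eq_one_iff y).2 e)) hx2 hy2)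
    have h5 := kp_le_of_surjective (p := p) hπ
    have h6 := hp.out.two_le
    change p ≤ kp p (G ⧸ A) ∨ (kp p (G ⧸ A) = p - 1 ∧ _) ∨ (_ ∧ kp p (G ⧸ A) = 9 ∧ _) at h4
    rcases h4 with e | ⟨e, -⟩ | ⟨e, e', -⟩ <;> omega
  have hOA : O ≤ A := fun x hx => by
    obtain ⟨k, hk⟩ := hord x hx
    rw [← QuotientGroup.eq_one_iff, ← orderOf_eq_one_iff]
    exact ((((Nat.Prime.coprime_iff_not_dvd hp.out).2 h3).pow_left k).coprime_dvd_left
      (hk ▸ orderOf_map_dvd (QuotientGroup.mk' A) x)).eq_one_of_dvd (orderOf_dvd_natCard _)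
  obtain rfl : A = O := le_antisymm hAO hOA
  obtain ⟨n, hn⟩ := hpV.exists_card_eq
  obtain ⟨H, hH⟩ := exists_right_complement'_of_coprime (N := A)
    (hn ▸ ((Nat.Prime.coprime_iff_not_dvd hp.out).2 h3).pow_left n)
  rw [hH.symm.index_eq_card] at h3
  obtain ⟨σ, hσ⟩ := exists_rho hA
  have hinj : Function.Injective (σ.comp H.subtype) := (injective_iff_map_eq_one _).2 fun g hg =>
    Subtype.ext (disjoint_def.1 hH.disjoint (hc fun v hv => (mul_inv_eq_iff_eq_mul.1
      ((hσ g (GT.EAV.mk hA v hv)).symm.trans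
        (congrArg GT.EAV.val (DFunLike.congr_fun hg _)))).symm) g.2)
  have : Nontrivial (GT.EAV hA) := (nontrivial_iff_ne_bot A).2 h0
  have horb : ∀ x y : GT.EAV hA, IsConj x.val y.val → y ∈ orb (σ.comp H.subtype) x :=
    fun x y e => by
      obtain ⟨g, hg⟩ := isConj_iff.1 e
      obtain ⟨⟨a, s⟩, rfl⟩ := hH.2 g
      refine ⟨s, GT.EAV.ext ((hσ s x).trans ?_)⟩
      have h3 := hA.comm a.2 (Normal.conj_mem inferInstance _ x.val_mem s)
      rw [← hg]
      calc _ = (a : G) * ((s : G) * x.val * (s : G)⁻¹) * (a : G)⁻¹ := by rw [h3]; group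
        _ = _ := by simp [mul_assoc]
  have hrep : ∀ c : G, ∃ x : GT.EAV hA, ∀ w : GT.EAV hA, IsConj c w.val → IsConj x.val w.val :=
    fun c => by
      by_cases e : ∃ x : GT.EAV hA, IsConj c x.val
      · obtain ⟨x, hx⟩ := e
        exact ⟨x, fun w hw => hx.symm.trans hw⟩
      · exact ⟨0, fun w hw => absurd ⟨w, hw⟩ e⟩
  obtain ⟨x, hx⟩ := hrep a
  obtain ⟨y, hy⟩ := hrep b
  rcases lin (u := x) (v := y) hinj h3 (fun w hw =>
    (hab w.val (mt GT.EAV.val_eq_one_iff.1 hw) (hord _ w.val_mem)).imp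
      (fun e => horb _ _ (hx w e)) fun e => horb _ _ (hy w e)) with e | ⟨e1, e2, e3⟩
  · exact Or.inl (e.trans (Nat.mul_le_mul_left 2 (k_le_kp
      (hH.symm.QuotientMulEquiv.toMonoidHom.comp (QuotientGroup.mk' A))
      (hH.symm.QuotientMulEquiv.surjective.comp hπ) h3)))
  · exact Or.inr ⟨A, H, hN, hA, hc, hH, h3, e1, e2, e3⟩

end Cfsg.Agent.K3C
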